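import Cfsg.Agent.Lib.BlockArith.FreeSylow
import Cfsg.Agent.Lib.Char.Generalized

/-!
# Extension of stable functions along `p`-parts for an abelian Sylow subgroup

By Burnside's lemma the normaliser controls fusion, so no further hypothesis on the action is needed.
-/

set_option autoImplicit false

noncomputable section

namespace CfsgLib.ProductFour

open Cfsg CfsgLib.Blocks CfsgLib.BlockArith CfsgLib.Char CfsgLib.FreeSylow CfsgLib.Star
open scoped ComplexConjugate Classical

variable {G : Type*} [Group G] [Fintype G] {p : ℕ} [hp : Fact p.Prime] {P : Sylow p G}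

/-- Conjugate elements of `P` differ by an induced automorphism. -/
theorem exists_autN (hab : IsMulCommutative (P : Subgroup G)) {w w' : (P : Subgroup G)} (h : IsConj (w : G) (w' : G)) :
    ∃ γ ∈ autN P, γ w = w' := by
  obtain ⟨x, hx⟩ := isConj_iff.mp h
  have := hab
  obtain ⟨n, hn, hne⟩ := P.conj_eq_normalizer_conj_of_mem (w : G) x⁻¹ w.2
    (by rw [inv_inv, hx]; exact w'.2)
  rw [inv_inv, hx] at hne
  refine ⟨(P : Subgroup G).normalizerMonoidHom ⟨n⁻¹, inv_mem hn⟩, ⟨_, rfl⟩, Subtype.ext ?_⟩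
  rw [hne]
  show n⁻¹ * (w : G) * n⁻¹⁻¹ = n⁻¹ * (w : G) * n
  rw [inv_inv]

theorem sext_eq (hab : IsMulCommutative (P : Subgroup G)) {η : ↥(P : Subgroup G) → ℂ} (hη : Stable P η) {g : G}
    {w : (P : Subgroup G)} (h : IsConj (ppart p g) (w : G)) : sext P η g = η w := by
  obtain ⟨x, hx⟩ := isConj_iff.mp h
  have hex : ∃ x : G, x * ppart p g * x⁻¹ ∈ (P : Subgroup G) := ⟨x, by rw [hx]; exact w.2⟩
  rw [sext, dif_pos hex]
  obtain ⟨γ, hγ, hw⟩ := exists_autN hab (w := ⟨_, hex.choose_spec⟩) (w' := w)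
    ((isConj_iff.mpr ⟨hex.choose, rfl⟩).symm.trans h)
  rw [← hw]
  exact (hη γ hγ _).symm

theorem exists_sext (hab : IsMulCommutative (P : Subgroup G)) {η : ↥(P : Subgroup G) → ℂ} (hη : Stable P η) (g : G) :
    ∃ w : (P : Subgroup G), IsConj (ppart p g) (w : G) ∧ sext P η g = η w := by
  obtain ⟨x, hx⟩ := exists_conj_mem P (exists_pow_ppart g)
  exact ⟨⟨_, hx⟩, isConj_iff.mpr ⟨x, rfl⟩, sext_eq hab hη (isConj_iff.mpr ⟨x, rfl⟩)⟩

theorem isClassFunction_sext (hab : IsMulCommutative (P : Subgroup G)) {η : ↥(P : Subgroup G) → ℂ} (hη : Stable P η) :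
    IsClassFunction G (sext P η) := by
  intro g h
  obtain ⟨w, hw, heq⟩ := exists_sext hab hη g
  rw [heq]
  refine sext_eq hab hη ?_
  rw [ppart_eq (isPPart_conj (isPPart_ppart g) h)]
  exact (isConj_iff.mpr ⟨h, rfl⟩).symm.trans hw

theorem sext_section (hab : IsMulCommutative (P : Subgroup G)) {η : ↥(P : Subgroup G) → ℂ} (hη : Stable P η) (y : (P : Subgroup G))
    (s : Subgroup.centralizer ({(y : G)} : Set G)) (hs : ¬ p ∣ orderOf s) :
    sext P η ((y : G) * (s : G)) = η y := by
  refine sext_eq hab hη ?_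
  rw [ppart_eq (isPPart_mul (commute_of_mem_centralizer s)
    (CfsgLib.NilBlock.exists_pow_of_mem P.isPGroup' y.2) (by rwa [Subgroup.orderOf_coe]))]

/-- A stable generalised character extends to one of `G`. -/
theorem isGen_sext (hab : IsMulCommutative (P : Subgroup G)) {η : ↥(P : Subgroup G) → ℂ} (hη : Stable P η)
    (hgen : IsGeneralizedCharacter (P : Subgroup G) η) : IsGeneralizedCharacter G (sext P η) := by
  refine isGen_of_elementary (isClassFunction_sext hab hη) fun E q hq hE => ?_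
  have := Fintype.ofFinite E
  have := isNilpotent_of_isElementary hq hE
  set a := (Nat.card G).factorization p with ha
  set m := Nat.card G / p ^ a with hm
  have hpm : ¬ p ∣ m := Nat.not_dvd_ordCompl hp.out Nat.card_pos.ne'
  have hcop : Nat.Coprime m (p ^ a) :=
    ((hp.out.coprime_iff_not_dvd.mpr hpm).pow_left _).symm
  have hcard : Nat.card G ∣ m * p ^ a :=
    dvd_of_eq ((Nat.mul_comm _ _).trans (Nat.ordProj_mul_ordCompl_eq_self _ p)).symm
  have hE' : Nat.card E ∣ m * p ^ a := (Subgroup.card_subgroup_dvd_card E).trans hcard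
  let Hs := piSubgroup (G := E) hcop hE'
  let π : E →* Hs := MonoidHom.mk' (fun e => ⟨piPart m (p ^ a) e,
    piPart_pow_eq_one (pow_eq_one_of_dvd hE' e)⟩) fun a b => Subtype.ext (piPart_mul hcop hE' a b)
  let ι : Hs →* G := E.subtype.comp Hs.subtype
  have hHs : IsPGroup p Hs := by
    obtain ⟨j, -, hj⟩ := (Nat.dvd_prime_pow hp.out).mp (card_piSubgroup_dvd hcop hE')
    exact IsPGroup.of_card hj
  have hrange : IsPGroup p ι.range := hHs.of_surjective ι.rangeRestrict ι.rangeRestrict_surjective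
  obtain ⟨S, hS⟩ := hrange.exists_le_sylow
  obtain ⟨x, hx⟩ := MulAction.exists_smul_eq G S P
  have hmem : ∀ e : E, x * ι (π e) * x⁻¹ ∈ (P : Subgroup G) := fun e => by
    rw [← hx, Sylow.coe_subgroup_smul]
    exact ⟨_, hS ⟨π e, rfl⟩, rfl⟩
  let ψ : E →* (P : Subgroup G) :=
    MonoidHom.mk' (fun e => ⟨x * ι (π e) * x⁻¹, hmem e⟩) fun c d => Subtype.ext (by
      simp [map_mul, mul_assoc])
  have key : (fun e : E => sext P η (e : G)) = η ∘ ψ := by
    funext e
    refine sext_eq hab hη ?_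
    have hpp : IsPPart p (e : G) (ι (π e)) := by
      have he : e ^ (m * p ^ a) = 1 := pow_eq_one_of_dvd hE' e
      refine ⟨((e * (piPart m (p ^ a) e)⁻¹ : E) : G), ?_, ?_, ?_, ?_⟩
      · show ((piPart m (p ^ a) e : E) : G) * _ = _
        rw [← Subgroup.coe_mul]
        congr 1
        have hc : Commute (piPart m (p ^ a) e) e := (Commute.refl e).zpow_left _
        rw [← mul_assoc, hc.eq, mul_inv_cancel_right]
      · have hc : Commute (piPart m (p ^ a) e) e := (Commute.refl e).zpow_left _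
        exact (hc.mul_right (Commute.refl _).inv_right).map E.subtype
      · obtain ⟨j, -, hj⟩ := (Nat.dvd_prime_pow hp.out).mp
          (orderOf_dvd_of_pow_eq_one (piPart_pow_eq_one (m := m) (n := p ^ a) he))
        exact ⟨j, by rw [← hj]; exact Subgroup.orderOf_coe (piPart m (p ^ a) e)⟩
      · rw [Subgroup.orderOf_coe]
        exact fun hd => hpm (hd.trans (orderOf_dvd_of_pow_eq_one (piPart_compl_pow_eq_one hcop he)))
    rw [ppart_eq hpp]
    exact isConj_iff.mpr ⟨x, rfl⟩
  rw [key]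
  exact isGen_comp hgen ψ

end CfsgLib.ProductFour
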