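import Cfsg.Agent.Lib.Blocks.ProductFour.Section
import Cfsg.Agent.Lib.Blocks.ProductFour.Sext
import Cfsg.Agent.Lib.Blocks.KleinRank
import Cfsg.Agent.Lib.Blocks.Covering
import Cfsg.Agent.Lib.CharNormal.Gallagher
import Cfsg.Agent.Lib.Char.Linear
import Mathlib.GroupTheory.FiniteAbelian.Duality

/-!
# The principal block of the centraliser of an involution in the product case

For an abelian Sylow 2-subgroup `Q` with an automiser-invariant four-group `W`, acting trivially on
`Q / W` and transitively on `W`: `exists_regular_basis` describes the principal block on regular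
elements.
-/

set_option autoImplicit false

noncomputable section

namespace CfsgLib.ProductFour

open Cfsg CfsgLib.Blocks CfsgLib.Char CfsgLib.FreeSylow CfsgLib.CharNormal
open scoped ComplexConjugate Classical

section ext

variable {G : Type*} [Group G] [Fintype G] {p : ℕ} [hp : Fact p.Prime] {P : Sylow p G}

/-- A stable linear character of an abelian Sylow subgroup extends. -/
theorem exists_linear_ext (hab : IsMulCommutative (P : Subgroup G)) (l : (P : Subgroup G) →* ℂˣ)
    (hl : ∀ γ ∈ autN P, ∀ w, l (γ w) = l w) :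
    ∃ L : G →* ℂˣ, (∀ w : (P : Subgroup G), L w = l w) ∧ ∀ g : G, ¬ p ∣ orderOf g → L g = 1 := by
  set η : ↥(P : Subgroup G) → ℂ := fun w => (l w : ℂ)
  have hη : Stable P η := fun γ hγ w => by simp only [η, hl γ hγ w]
  have hirr : IsIrrCharacter (P : Subgroup G) η := isIrrCharacter_units_hom l
  have hgen := isGen_sext hab hη (isGen_of_irr hirr)
  have hval : ∀ g : G, sext P η g * conj (sext P η g) = 1 := fun g => by
    obtain ⟨w, -, hw⟩ := exists_sext hab hη g
    rw [hw, ← char_inv (isCharacter_of_isIrr hirr)]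
    simp [η]
  have hnorm : classInner (sext P η) (sext P η) = 1 := by
    rw [classInner_def, Finset.sum_congr rfl fun g _ => hval g, Finset.sum_const, Finset.card_univ,
      nsmul_one, ← Nat.card_eq_fintype_card, inv_mul_cancel₀ CfsgLib.Char.card_ne_zero']
  have hPP : ∀ w : (P : Subgroup G), CfsgLib.Star.ppart p (w : G) = (w : G) := fun w =>
    CfsgLib.Star.ppart_eq ⟨1, mul_one _, Commute.one_right _,
      CfsgLib.NilBlock.exists_pow_of_mem P.isPGroup' w.2, by rw [orderOf_one]; exact hp.out.not_dvd_one⟩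
  have hon : ∀ w : (P : Subgroup G), sext P η w = η w := fun w => by
    refine sext_eq hab hη ?_
    rw [hPP w]
  have h1 : sext P η 1 = 1 := by
    have := hon 1
    simpa [η] using this
  have hirrG := gen_norm_one_pos hgen hnorm (by rw [h1]; norm_num)
  refine ⟨linearHom (isCharacter_of_isIrr hirrG) h1, fun w => Units.ext ?_, fun g hg => Units.ext ?_⟩
  · rw [linearHom_apply, hon]
  · rw [linearHom_apply, Units.val_one, sext_eq hab hη (w := 1)]
    · simp [η]
    · rw [CfsgLib.Star.ppart_eq ⟨g, one_mul g, Commute.one_left g, ⟨0, by simp⟩, hg⟩, Subgroup.coe_one]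

/-- A normal subgroup with abelian `p`-quotient cut out by a stable subgroup. -/
theorem exists_kernel (hab : IsMulCommutative (P : Subgroup G)) (W : Subgroup (P : Subgroup G))
    (hW : ∀ γ ∈ autN P, ∀ w, w⁻¹ * γ w ∈ W) :
    ∃ K : Subgroup G, K.Normal ∧ commutator G ≤ K ∧ (∀ g : G, ¬ p ∣ orderOf g → g ∈ K) ∧
      (∀ w : (P : Subgroup G), (w : G) ∈ K ↔ w ∈ W) ∧ K.index = W.index := by
  let _ : CommGroup (P : Subgroup G) :=
    { (inferInstance : Group (P : Subgroup G)) with mul_comm := fun a b => hab.is_comm.comm a b }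
  let L : Set (G →* ℂˣ) :=
    {L | (∀ w : (P : Subgroup G), w ∈ W → L w = 1) ∧ ∀ g : G, ¬ p ∣ orderOf g → L g = 1}
  let K : Subgroup G := ⨅ f ∈ L, f.ker
  have hmemK : ∀ g : G, g ∈ K ↔ ∀ f ∈ L, f g = 1 := fun g => by
    simp [K, Subgroup.mem_iInf, MonoidHom.mem_ker]
  have hN : K.Normal := Subgroup.normal_iInf_normal fun f => Subgroup.normal_iInf_normal fun _ => inferInstance
  have hcomm : commutator G ≤ K := le_iInf₂ fun f _ => Abelianization.commutator_subset_ker f
  have hreg : ∀ g : G, ¬ p ∣ orderOf g → g ∈ K := fun g hg => (hmemK g).mpr fun f hf => hf.2 g hg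
  have hiff : ∀ w : (P : Subgroup G), (w : G) ∈ K ↔ w ∈ W := by
    intro w
    refine ⟨fun h => ?_, fun h => (hmemK _).mpr fun f hf => hf.1 w h⟩
    by_contra hw
    have : W.Normal := Subgroup.normal_of_comm W
    let _ : CommGroup ((P : Subgroup G) ⧸ W) := QuotientGroup.Quotient.commGroup W
    have : NeZero (Monoid.exponent ((P : Subgroup G) ⧸ W) : ℂ) :=
      ⟨by exact_mod_cast Monoid.exponent_ne_zero_of_finite⟩
    obtain ⟨φ, hφ⟩ := CommGroup.exists_apply_ne_one_of_hasEnoughRootsOfUnity ((P : Subgroup G) ⧸ W) ℂ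
      (a := (w : (P : Subgroup G) ⧸ W)) (by rwa [ne_eq, QuotientGroup.eq_one_iff])
    obtain ⟨f, hfP, hfr⟩ := exists_linear_ext hab (φ.comp (QuotientGroup.mk' W)) fun γ hγ v => by
      simp only [MonoidHom.comp_apply, QuotientGroup.mk'_apply]
      exact congrArg φ (QuotientGroup.eq.mpr (hW γ hγ v)).symm
    refine hφ ?_
    have h1 := (hmemK _).mp h f ⟨fun v hv => ?_, hfr⟩
    · rw [hfP] at h1
      exact h1
    · rw [hfP, MonoidHom.comp_apply, QuotientGroup.mk'_apply, (QuotientGroup.eq_one_iff v).mpr hv, map_one]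
  refine ⟨K, hN, hcomm, hreg, hiff, ?_⟩
  let φ : (P : Subgroup G) →* G ⧸ K := (QuotientGroup.mk' K).comp (P : Subgroup G).subtype
  have hker : φ.ker = W := by
    ext w
    simp [φ, MonoidHom.mem_ker, hiff]
  have hsurj : Function.Surjective φ := by
    intro q
    obtain ⟨g, rfl⟩ := QuotientGroup.mk_surjective q
    obtain ⟨z, hz⟩ := exists_isPPart (p := p) g
    obtain ⟨y, rfl, -, hzk, hy⟩ := hz
    obtain ⟨x, hx⟩ := exists_conj_mem P hzk
    refine ⟨⟨_, hx⟩, ?_⟩
    refine (QuotientGroup.eq.mpr ?_ : ((x * z * x⁻¹ : G) : G ⧸ K) = ((z * y : G) : G ⧸ K))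
    have h1 : (x * z⁻¹ * x⁻¹ * z) ∈ K := hcomm (Subgroup.commutator_mem_commutator (Subgroup.mem_top x) (Subgroup.mem_top z⁻¹))
      |> fun h => by simpa [commutatorElement_def] using h
    have h2 := mul_mem h1 (hreg y hy)
    simpa [mul_assoc] using h2
  rw [← hker, Subgroup.index_ker]
  rw [MonoidHom.range_eq_top.mpr hsurj, Subgroup.card_top, Subgroup.index_eq_card]

end ext

section quotient

variable {G : Type*} [Group G] [Fintype G] {M : Ideal AlgInt} [M.IsMaximal] {p : ℕ} [hp : Fact p.Prime]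
  {K : Subgroup G} [K.Normal] [Fintype K]

theorem icc_irrOne (n : K) :
    centralChar ((CfsgLib.Char.irrOne : IrrCharacter G) : G → ℂ) (n : G) =
      inducedCentralChar K ((CfsgLib.Char.irrOne : IrrCharacter K) : K → ℂ) (n : G) :=
  centralChar_eq_icc_of_over (CfsgLib.Char.irrOne : IrrCharacter G).2
    (classInner_res_one_ne_zero (CfsgLib.Char.irrOne : IrrCharacter G).2 fun _ _ => rfl) n.2

/-- Constituents of the principal block are principal. -/
theorem constituent_principal {χ : IrrCharacter G} (hχ : χ ∈ principalBlock M G) {θ : IrrCharacter K}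
    (h : classInner (fun n : K => (χ : G → ℂ) n) (θ : K → ℂ) ≠ 0) : θ ∈ principalBlock M K := by
  obtain ⟨g, hg⟩ := exists_conj_sameBlock_of_congr (M := M) χ.2 h (θ' := CfsgLib.Char.irrOne) fun n => by
    rw [← icc_irrOne n]
    exact (sameBlock_iff χ CfsgLib.Char.irrOne).mpr
      (bomega_eq_of_mem isPBlock_principalBlock hχ irrOne_mem_principalBlock) n
  have h1 := sameBlock_conjFun hg g⁻¹
  rw [conjFun_inv_conjFun] at h1
  rw [principalBlock_eq, mem_blockOf_iff]
  exact ((sameBlock_iff θ CfsgLib.Char.irrOne).mp h1).symm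

/-- Above a principal character only the principal block. -/
theorem over_principal (hM : IsPModular p M) (hreg : ∀ g : G, ¬ p ∣ orderOf g → g ∈ K) {χ : IrrCharacter G}
    {θ : IrrCharacter K} (hθ : θ ∈ principalBlock M K)
    (h : classInner (fun n : K => (χ : G → ℂ) n) (θ : K → ℂ) ≠ 0) : χ ∈ principalBlock M G := by
  rw [principalBlock_eq, mem_blockOf_iff, ← sameBlock_iff]
  refine sameBlock_of_congr_on_normal hM hreg fun n => ?_
  rw [icc_irrOne n, centralChar_eq_icc_of_over χ.2 h n.2, ← bomega_rclass_eq_iff]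
  exact RingHom.congr_fun (bomega_eq_of_mem isPBlock_principalBlock irrOne_mem_principalBlock hθ) _

/-- A character vanishing nowhere on `P` restricts irreducibly when `G = P K` and `G / K` is abelian. -/
theorem restrict_irr (hcomm : commutator G ≤ K) (P : Subgroup G) (hPK : ∀ g : G, ∃ w ∈ P, w⁻¹ * g ∈ K)
    {χ : IrrCharacter G} (hne : ∀ w ∈ P, (χ : G → ℂ) w ≠ 0) {θ : IrrCharacter K}
    (h : classInner (fun n : K => (χ : G → ℂ) n) (θ : K → ℂ) ≠ 0) :
    ∀ n : K, (χ : G → ℂ) n = (θ : K → ℂ) n := by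
  let _ : CommGroup (G ⧸ K) :=
    { (inferInstance : Group (G ⧸ K)) with
      mul_comm := fun a b => by
        obtain ⟨a, rfl⟩ := QuotientGroup.mk_surjective a
        obtain ⟨b, rfl⟩ := QuotientGroup.mk_surjective b
        rw [← QuotientGroup.mk_mul, ← QuotientGroup.mk_mul, QuotientGroup.eq]
        have := hcomm (Subgroup.commutator_mem_commutator (Subgroup.mem_top b⁻¹) (Subgroup.mem_top a⁻¹))
        simpa [commutatorElement_def, mul_assoc] using this }
  have : NeZero (Monoid.exponent (G ⧸ K) : ℂ) := ⟨by exact_mod_cast Monoid.exponent_ne_zero_of_finite⟩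
  have hdual : Nat.card ((G ⧸ K) →* ℂˣ) = K.index := by
    rw [CommGroup.card_monoidHom_of_hasEnoughRootsOfUnity, Subgroup.index_eq_card]
  let tw : ((G ⧸ K) →* ℂˣ) → IrrCharacter G := fun l =>
    ⟨fun g : G => (χ : G → ℂ) g * (l ((g : G) : G ⧸ K) : ℂ), isIrr_mul_linear χ.2
      (isCharacter_of_isIrr (isIrrCharacter_units_hom (l.comp (QuotientGroup.mk' K)))) (by simp)⟩
  have htw : Function.Injective tw := by
    intro l l' he
    refine MonoidHom.ext fun q => ?_
    obtain ⟨g, rfl⟩ := QuotientGroup.mk_surjective q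
    obtain ⟨w, hw, hwg⟩ := hPK g
    rw [← QuotientGroup.eq.mpr hwg]
    have : (χ : G → ℂ) w * (l (w : G ⧸ K) : ℂ) = (χ : G → ℂ) w * (l' (w : G ⧸ K) : ℂ) :=
      congrFun (congrArg Subtype.val he) w
    exact Units.ext (mul_left_cancel₀ (hne w hw) this)
  have := Fintype.ofFinite ((G ⧸ K) →* ℂˣ)
  have hres : ∀ l (n : K), (tw l : G → ℂ) n = (χ : G → ℂ) n := fun l n => by
    show (χ : G → ℂ) n * (l ((n : G) : G ⧸ K) : ℂ) = _
    rw [(QuotientGroup.eq_one_iff (n : G)).mpr n.2, map_one, Units.val_one, mul_one]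
  obtain ⟨c, hc⟩ := classInner_char_nat (isCharacter_res K (isCharacter_of_isIrr χ.2)) (isCharacter_of_isIrr θ.2)
  have hc1 : 1 ≤ c := Nat.one_le_iff_ne_zero.mpr fun h0 => h (by rw [hc, h0, Nat.cast_zero])
  choose m hm using fun η : IrrCharacter G =>
    classInner_char_nat (isCharacter_res K (isCharacter_of_isIrr η.2)) (isCharacter_of_isIrr θ.2)
  choose D hD using fun η : IrrCharacter G => exists_degree (isCharacter_of_isIrr η.2)
  obtain ⟨t, ht⟩ := exists_degree (isCharacter_of_isIrr θ.2)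
  have hsum := sum_degree_mul_classInner_res (G := G) K θ.2
  simp only [hm, hD, ht] at hsum
  have hsum' : ∑ η : IrrCharacter G, D η * m η = K.index * t := by exact_mod_cast hsum
  have hle : ∑ η ∈ Finset.univ.image tw, D η * m η ≤ ∑ η : IrrCharacter G, D η * m η :=
    Finset.sum_le_sum_of_subset (Finset.subset_univ _)
  have hDl : ∀ l, D (tw l) = D χ := fun l => by
    have h1 := hres l 1
    rw [OneMemClass.coe_one, hD, hD] at h1
    exact_mod_cast h1
  have hml : ∀ l, m (tw l) = c := fun l => by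
    have h1 := hm (tw l)
    rw [show (fun n : K => (tw l : G → ℂ) n) = fun n : K => (χ : G → ℂ) n from funext (hres l), hc] at h1
    exact_mod_cast h1.symm
  rw [Finset.sum_image fun a _ b _ hab => htw hab, Finset.sum_congr rfl fun l _ => by rw [hDl l, hml l],
    Finset.sum_const, Finset.card_univ, ← Nat.card_eq_fintype_card, hdual, hsum', smul_eq_mul] at hle
  have hidx : 0 < K.index := Nat.pos_of_ne_zero Subgroup.index_ne_zero_of_finite
  have hle' : D χ * c ≤ t := Nat.le_of_mul_le_mul_left hle hidx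
  have hcl := isClassFunction_of_isCharacter (isCharacter_res K (isCharacter_of_isIrr χ.2))
  choose e he using fun φ : IrrCharacter K =>
    classInner_char_nat (isCharacter_res K (isCharacter_of_isIrr χ.2)) (isCharacter_of_isIrr φ.2)
  choose E hE using fun φ : IrrCharacter K => exists_degree_pos φ.2
  have h1 := congrFun (classFun_eq_sum hcl) 1
  simp only [Finset.sum_apply, Pi.smul_apply, smul_eq_mul, OneMemClass.coe_one, hD, he, (hE _).2] at h1
  have h1' : D χ = ∑ φ : IrrCharacter K, e φ * E φ := by exact_mod_cast h1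
  have hEθ : E θ = t := by
    have := (hE θ).2
    rw [ht] at this
    exact_mod_cast this.symm
  have heθ : e θ = c := by
    have := he θ
    rw [hc] at this
    exact_mod_cast this.symm
  have hsplit := Finset.add_sum_erase Finset.univ (fun φ => e φ * E φ) (Finset.mem_univ θ)
  rw [← h1', hEθ, heθ] at hsplit
  have ht0 : 0 < t := hEθ ▸ (hE θ).1
  have hct : t ≤ c * t := Nat.le_mul_of_pos_left t hc1
  have hDc : D χ ≤ D χ * c := Nat.le_mul_of_pos_right _ hc1
  have hrest : ∑ φ ∈ Finset.univ.erase θ, e φ * E φ = 0 := by omega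
  have hc' : c = 1 := by
    have : c * t ≤ t := by omega
    have := Nat.le_of_mul_le_mul_right (show c * t ≤ 1 * t by omega) ht0
    omega
  intro n
  have hn := congrFun (classFun_eq_sum hcl) n
  simp only [Finset.sum_apply, Pi.smul_apply, smul_eq_mul, he] at hn
  rw [hn, Finset.sum_eq_single θ (fun φ _ hφ => ?_) (by simp), heθ, hc', Nat.cast_one, one_mul]
  have h0 := (Finset.sum_eq_zero_iff.mp hrest) φ (Finset.mem_erase.mpr ⟨hφ, Finset.mem_univ _⟩)
  rcases Nat.mul_eq_zero.mp h0 with h0 | h0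
  · rw [h0, Nat.cast_zero, zero_mul]
  · exact absurd h0 (hE φ).1.ne'

end quotient

/-- The principal block on regular elements. -/
theorem exists_regular_basis {H : Type*} [Group H] [Fintype H] {M : Ideal AlgInt} [M.IsMaximal]
    (hM : IsPModular 2 M) (Q : Sylow 2 H) (hab : IsMulCommutative (Q : Subgroup H))
    (hQ : Nat.card (Q : Subgroup H) = 16)
    (hexp : ∀ w : (Q : Subgroup H), w ^ 2 = 1) (W : Subgroup (Q : Subgroup H)) (hW4 : Nat.card W = 4)
    (hW : ∀ γ ∈ autN Q, ∀ w, w⁻¹ * γ w ∈ W)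
    (htrans : ∀ w ∈ W, w ≠ 1 → ∀ w' ∈ W, w' ≠ 1 → ∃ γ ∈ autN Q, γ w = w') :
    ∃ (f : Fin 4 → IrrCharacter H) (δ : Fin 4 → ℤ), f 0 = CfsgLib.Char.irrOne ∧ δ 0 = 1 ∧
      (∀ b, δ b = 1 ∨ δ b = -1) ∧ (∀ b, f b ∈ principalBlock M H) ∧
      (∀ ζ ∈ principalBlock M H, ∃ b, ∀ s : H, ¬ 2 ∣ orderOf s → (ζ : H → ℂ) s = (f b : H → ℂ) s) ∧
      ∀ a b, 16 * ∑ s : H, (if 2 ∣ orderOf s then 0 else (f a : H → ℂ) s * conj ((f b : H → ℂ) s)) =
        (Nat.card H : ℂ) * (4 * (if a = b then 1 else 0) - (δ a : ℂ) * (δ b : ℂ)) := by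
  have := Fact.mk Nat.prime_two
  obtain ⟨K, hKn, hKc, hKreg, hKW, hKidx⟩ := exists_kernel hab W hW
  let _ := Fintype.ofFinite K
  -- the Sylow subgroup of `K`
  let Qk : Subgroup K := (Q : Subgroup H).subgroupOf K
  let φ : Qk ≃ W :=
    { toFun := fun x => ⟨⟨((x : K) : H), x.2⟩, (hKW _).mp (x : K).2⟩
      invFun := fun w => ⟨⟨((w : (Q : Subgroup H)) : H), (hKW w).mpr w.2⟩, (w : (Q : Subgroup H)).2⟩
      left_inv := fun x => rfl
      right_inv := fun w => rfl }
  have hQk4 : Nat.card Qk = 4 := by rw [Nat.card_congr φ, hW4]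
  have hcardK : Nat.card K * K.index = Nat.card H := K.card_mul_index
  have hWidx : Nat.card W * W.index = Nat.card (Q : Subgroup H) := W.card_mul_index
  have hmult := Q.card_eq_multiplicity
  rw [← hcardK, Nat.factorization_mul Nat.card_pos.ne' Subgroup.index_ne_zero_of_finite, Finsupp.add_apply,
    hKidx, pow_add, ← hWidx, hW4] at hmult
  have hfK : 2 ^ (Nat.card K).factorization 2 = 4 := by
    have hidx : 2 ^ W.index.factorization 2 = W.index := by
      obtain ⟨j, hj⟩ := IsPGroup.iff_card.mp Q.isPGroup'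
      obtain ⟨i, -, hi⟩ := (Nat.dvd_prime_pow Nat.prime_two).mp (hj ▸ Subgroup.index_dvd_card W)
      rw [hi, Nat.Prime.factorization_pow Nat.prime_two, Finsupp.single_eq_same]
    rw [hidx] at hmult
    exact (Nat.eq_of_mul_eq_mul_right (Nat.pos_of_ne_zero Subgroup.index_ne_zero_of_finite) hmult).symm
  let R : Sylow 2 K := Sylow.ofCard Qk (by rw [hfK]; exact hQk4)
  have hRc : (R : Subgroup K) = Qk := Sylow.coe_ofCard _ _
  have hsq : ∀ r : (R : Subgroup K), r ^ 2 = 1 := fun r => by
    have hr : ((r : K) : H) ∈ (Q : Subgroup H) := by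
      exact (SetLike.ext_iff.mp hRc (r : K)).mp r.2
    have := congrArg Subtype.val (hexp ⟨_, hr⟩)
    exact Subtype.ext (Subtype.ext (by simpa using this))
  have hKF : IsKleinFour (R : Subgroup K) := by
    refine ⟨by rw [hRc]; exact hQk4, ?_⟩
    have hd : Monoid.exponent (R : Subgroup K) ∣ 2 := Monoid.exponent_dvd_of_forall_pow_eq_one hsq
    rcases (Nat.dvd_prime Nat.prime_two).mp hd with h | h
    · exfalso
      have := Monoid.exp_eq_one_iff.mp h
      have h4 : Nat.card (R : Subgroup K) = 4 := by rw [hRc]; exact hQk4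
      rw [Nat.card_unique] at h4
      omega
    · exact h
  have hone : ∀ s t : K, orderOf s = 2 → orderOf t = 2 → IsConj s t := by
    intro s t hs ht
    obtain ⟨x, hx⟩ := exists_conj_mem R (u := s) ⟨1, by rw [hs, pow_one]⟩
    obtain ⟨y, hy⟩ := exists_conj_mem R (u := t) ⟨1, by rw [ht, pow_one]⟩
    refine (isConj_iff.mpr ⟨x, rfl⟩).trans (IsConj.trans ?_ (isConj_iff.mpr ⟨y, rfl⟩).symm)
    set s' := x * s * x⁻¹
    set t' := y * t * y⁻¹
    rw [hRc] at hx hy
    let a : (Q : Subgroup H) := ⟨(s' : H), hx⟩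
    let b : (Q : Subgroup H) := ⟨(t' : H), hy⟩
    have hne : ∀ (u z : K), orderOf u = 2 → z * u * z⁻¹ ≠ 1 := fun u z hu h => by
      rw [conj_eq_one_iff] at h
      rw [h, orderOf_one] at hu
      omega
    have ha : a ≠ 1 := fun h => hne s x hs (Subtype.ext (congrArg Subtype.val h : ((x * s * x⁻¹ : K) : H) = 1))
    have hb : b ≠ 1 := fun h => hne t y ht (Subtype.ext (congrArg Subtype.val h : ((y * t * y⁻¹ : K) : H) = 1))
    obtain ⟨γ, hγ, hab'⟩ := htrans a ((hKW a).mp s'.2) ha b ((hKW b).mp t'.2) hb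
    obtain ⟨n, hn, hnγ⟩ := mem_autN_iff.mp hγ
    -- replace `n` by its odd part
    obtain ⟨i, j, ⟨k, hk⟩, hj, hij, -⟩ := CfsgLib.FGS.exists_p_parts 2 n
    have hni : n ^ i ∈ (Q : Subgroup H) :=
      CfsgLib.FGS.mem_of_mem_normalizer Q ⟨k, hk⟩ (pow_mem hn i)
    have hnj : n ^ j ∈ K := hKreg _ fun h2 => by
      have := Nat.Prime.coprime_iff_not_dvd Nat.prime_two |>.mp hj.symm
      exact this h2
    refine isConj_iff.mpr ⟨⟨n ^ j, hnj⟩, Subtype.ext ?_⟩
    have h := (congrArg Subtype.val hab').symm.trans (hnγ a)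
    have hc : n ^ i * (n ^ j * (s' : H) * (n ^ j)⁻¹) * (n ^ i)⁻¹ = n ^ j * (s' : H) * (n ^ j)⁻¹ := by
      have hmem : n ^ j * (s' : H) * (n ^ j)⁻¹ ∈ (Q : Subgroup H) :=
        (Subgroup.mem_normalizer_iff.mp (pow_mem hn j) _).mp hx
      have hcc := congrArg Subtype.val (hab.is_comm.comm (⟨_, hni⟩ : (Q : Subgroup H)) ⟨_, hmem⟩)
      simp only [Subgroup.coe_mul] at hcc
      rw [hcc, mul_inv_cancel_right]
    show n ^ j * (s' : H) * (n ^ j)⁻¹ = (t' : H)
    rw [show (t' : H) = n * (s' : H) * n⁻¹ from h, ← hc]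
    conv_rhs => rw [← hij]
    group
  obtain ⟨θ₂, θ₃, θ₄, ε, hε, h21, h31, h23, h24, h34, hB, hz, -, -, hd4, hrel⟩ :=
    klein_principal_block hM R hKF hone
  set θ : Fin 4 → IrrCharacter K := ![CfsgLib.Char.irrOne, θ₂, θ₃, θ₄] with hθdef
  set δ : Fin 4 → ℤ := ![1, 1, ε, -1] with hδdef
  have hf1 : ((CfsgLib.Char.irrOne : IrrCharacter K) : K → ℂ) = fun _ => 1 := rfl
  have h41 : θ₄ ≠ CfsgLib.Char.irrOne := fun h => by
    rw [h, hf1, charDegree_one] at hd4
    norm_num at hd4
  have hinj : Function.Injective θ := by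
    have e2 : θ₂ ≠ CfsgLib.Char.irrOne := fun h => h21 (by rw [h, hf1])
    have e3 : θ₃ ≠ CfsgLib.Char.irrOne := fun h => h31 (by rw [h, hf1])
    intro i j hij
    fin_cases i <;> fin_cases j <;> first
      | rfl
      | (exfalso; simp [hθdef] at hij; first
          | exact e2 hij | exact e2 hij.symm | exact e3 hij | exact e3 hij.symm | exact h41 hij | exact h41 hij.symm
          | exact h23 hij | exact h23 hij.symm | exact h24 hij | exact h24 hij.symm | exact h34 hij
          | exact h34 hij.symm)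
  have hθB : ∀ b, θ b ∈ principalBlock M K := fun b => by
    rw [hB]; fin_cases b <;> simp [hθdef, hf1]
  have hBθ : ∀ η ∈ principalBlock M K, ∃ b, η = θ b := fun η hη => by
    rw [hB] at hη
    rcases hη with h | h | h | h
    · exact ⟨0, Subtype.ext (h.trans hf1.symm)⟩
    · exact ⟨1, h⟩
    · exact ⟨2, h⟩
    · exact ⟨3, h⟩
  -- nonvanishing on the Sylow subgroup and extensions
  have hne : ∀ ζ ∈ principalBlock M H, ∀ w ∈ (Q : Subgroup H), (ζ : H → ℂ) w ≠ 0 := fun ζ hζ w hw => by
    refine ne_zero_of_odd_class hM hζ fun h2 => ?_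
    have hle : (Q : Subgroup H) ≤ Subgroup.centralizer ({w} : Set H) := fun v hv =>
      Subgroup.mem_centralizer_singleton_iff.mpr (congrArg Subtype.val (hab.is_comm.comm (⟨v, hv⟩ : (Q : Subgroup H)) ⟨w, hw⟩))
    exact Q.not_dvd_index (h2.trans (Subgroup.index_dvd_of_le hle))
  have hPK : ∀ g : H, ∃ w ∈ (Q : Subgroup H), w⁻¹ * g ∈ K := fun g => by
    obtain ⟨z, hz'⟩ := exists_isPPart (p := 2) g
    obtain ⟨y, rfl, -, hzk, hy⟩ := hz'
    obtain ⟨x, hx⟩ := exists_conj_mem Q hzk
    refine ⟨_, hx, ?_⟩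
    have h1 := mul_mem (hKc (Subgroup.commutator_mem_commutator (Subgroup.mem_top x) (Subgroup.mem_top z⁻¹)))
      (hKreg y hy)
    simpa [commutatorElement_def, mul_assoc] using h1
  choose ext hext using fun b => exists_irr_over (G := H) K (θ b).2
  have hextB : ∀ b, ext b ∈ principalBlock M H := fun b => over_principal hM hKreg (hθB b) (hext b)
  have hrestr : ∀ b (n : K), (ext b : H → ℂ) n = (θ b : K → ℂ) n := fun b =>
    restrict_irr hKc (Q : Subgroup H) hPK (hne _ (hextB b)) (hext b)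
  let f : Fin 4 → IrrCharacter H := Function.update ext 0 CfsgLib.Char.irrOne
  have hfθ : ∀ b (n : K), (f b : H → ℂ) n = (θ b : K → ℂ) n := fun b n => by
    by_cases hb : b = 0
    · subst hb; simp [f, hθdef]; rfl
    · simp [f, Function.update_of_ne hb, hrestr]
  refine ⟨f, δ, by simp [f], by simp [hδdef], fun b => ?_, fun b => ?_, fun ζ hζ => ?_, fun a b => ?_⟩
  · fin_cases b <;> simp [hδdef, hε]
  · by_cases hb : b = 0
    · subst hb; simpa [f] using irrOne_mem_principalBlock
    · simpa [f, Function.update_of_ne hb] using hextB b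
  · obtain ⟨η, hη⟩ := exists_over (N := K) ζ.2
    obtain ⟨b, rfl⟩ := hBθ η (constituent_principal hζ hη)
    refine ⟨b, fun s hs => ?_⟩
    have hr := restrict_irr hKc (Q : Subgroup H) hPK (hne _ hζ) hη ⟨s, hKreg s hs⟩
    exact hr.trans (hfθ b ⟨s, hKreg s hs⟩).symm
  · have hsumK : ∀ a b, ∑ s : H, (if 2 ∣ orderOf s then 0 else (f a : H → ℂ) s * conj ((f b : H → ℂ) s)) =
        ∑ n : K, (if 2 ∣ orderOf n then 0 else (θ a : K → ℂ) n * conj ((θ b : K → ℂ) n)) := fun a b => by
      rw [sum_eq_sum_subgroup _ fun g hg => by rw [if_pos]; by_contra h; exact hg (hKreg g h)]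
      exact Finset.sum_congr rfl fun n _ => by rw [Subgroup.orderOf_coe, hfθ, hfθ]
    -- values at the singular elements
    have hz₀ : ∃ z₀ : K, z₀ ∈ (R : Subgroup K) ∧ orderOf z₀ = 2 := by
      have : Nontrivial (R : Subgroup K) := Finite.one_lt_card_iff_nontrivial.mp (by rw [hKF.card_four]; norm_num)
      obtain ⟨z, hz⟩ := exists_ne (1 : (R : Subgroup K))
      exact ⟨z, z.2, orderOf_eq_prime (congrArg Subtype.val (hsq z)) fun h => hz (Subtype.ext h)⟩
    obtain ⟨z₀, hz₀R, hz₀2⟩ := hz₀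
    have hsing : ∀ b (g : K), 2 ∣ orderOf g → (θ b : K → ℂ) g = (δ b : ℂ) := by
      intro b g hg
      have hv : (θ b : K → ℂ) z₀ = (δ b : ℂ) := by
        obtain ⟨q2, q3, q4⟩ := hz z₀ hz₀2
        fin_cases b <;> simp [hθdef, hδdef, hf1, q2, q3, q4]
      rw [← hv]
      obtain ⟨z, hz'⟩ := exists_isPPart (p := 2) g
      obtain ⟨y, rfl, hcomm, hzk, hy⟩ := hz'
      have hz1 : z ≠ 1 := fun h => hy (by rwa [h, one_mul] at hg)
      have hz2 : orderOf z = 2 := orderOf_eq_prime (sq_eq_one_of_two_element R hKF hzk) hz1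
      obtain ⟨v, hv'⟩ := isConj_iff.mp (hone z z₀ hz2 hz₀2)
      have hvy : v * y * v⁻¹ ∈ Subgroup.centralizer ({z₀} : Set K) := by
        rw [Subgroup.mem_centralizer_singleton_iff, ← hv']
        calc v * y * v⁻¹ * (v * z * v⁻¹) = v * (y * z) * v⁻¹ := by group
          _ = v * (z * y) * v⁻¹ := by rw [hcomm.eq]
          _ = v * z * v⁻¹ * (v * y * v⁻¹) := by group
      let _ := Fintype.ofFinite (Subgroup.centralizer ({z₀} : Set K))
      rw [← isClassFunction_of_isIrr (θ b).2 (z * y) v,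
        show v * (z * y) * v⁻¹ = z₀ * (v * y * v⁻¹) by rw [← hv']; group]
      exact principal_section_const hM ⟨1, by rw [pow_one]; exact hz₀2⟩
        (index_pPrimeCore_centralizer R hKF hz₀R (fun h => by rw [h, orderOf_one] at hz₀2; omega)) (hθB b)
        (y := ⟨_, hvy⟩)
        (by rw [Subgroup.orderOf_mk, show v * y * v⁻¹ = MulAut.conj v y by simp, MulEquiv.orderOf_eq]; exact hy)
    set S : ℂ := ∑ n : K, (if 2 ∣ orderOf n then (1 : ℂ) else 0) with hS
    have hreg : ∀ a b, ∑ n : K, (if 2 ∣ orderOf n then 0 else (θ a : K → ℂ) n * conj ((θ b : K → ℂ) n)) =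
        (Nat.card K : ℂ) * (if a = b then 1 else 0) - S * ((δ a : ℂ) * (δ b : ℂ)) := by
      intro a b
      have hall : ∑ n : K, (θ a : K → ℂ) n * conj ((θ b : K → ℂ) n) = (Nat.card K : ℂ) * (if a = b then 1 else 0) := by
        rw [← card_mul_classInner, classInner_irrCharacter]
        simp only [hinj.eq_iff]
      rw [← hall, hS, Finset.sum_mul, ← Finset.sum_sub_distrib]
      refine Finset.sum_congr rfl fun n _ => ?_
      split_ifs with hn
      · rw [hsing a n hn, hsing b n hn, map_intCast]; ring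
      · ring
    have hS4 : 4 * S = (Nat.card K : ℂ) := by
      have h0 : ∑ b, (δ b : ℂ) * ∑ n : K, (if 2 ∣ orderOf n then 0 else (θ 0 : K → ℂ) n * conj ((θ b : K → ℂ) n)) = 0 := by
        simp only [Finset.mul_sum]
        rw [Finset.sum_comm]
        refine Finset.sum_eq_zero fun n _ => ?_
        split_ifs with hn
        · simp
        · have hr := congrArg (starRingEnd ℂ) (hrel n (Nat.odd_iff.mpr (Nat.two_dvd_ne_zero.mp hn)))
          simp only [map_add, map_sub, map_mul, map_one, map_zero, map_intCast] at hr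
          simp [Fin.sum_univ_four, hθdef, hδdef, hf1]
          linear_combination hr
      simp only [hreg] at h0
      have hδ2 : ∀ b, (δ b : ℂ) * (δ b : ℂ) = 1 := fun b => by
        fin_cases b <;> rcases hε with rfl | rfl <;> simp [hδdef]
      rw [Fin.sum_univ_four] at h0
      simp only [show δ 0 = 1 from rfl, Int.cast_one, one_mul, Fin.reduceEq, if_true, if_false] at h0
      linear_combination -h0 - S * hδ2 1 - S * hδ2 2 - S * hδ2 3
    have hidx : (Nat.card H : ℂ) = 4 * (Nat.card K : ℂ) := by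
      have hW16 : W.index = 4 := by
        have h := W.card_mul_index
        rw [hW4, hQ] at h
        omega
      rw [← hcardK, hKidx, hW16]; push_cast; ring
    rw [hsumK, hreg, hidx]
    linear_combination (-4 * ((δ a : ℂ) * (δ b : ℂ))) * hS4

end CfsgLib.ProductFour
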