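import Cfsg.Agent.Lib.BlockArith.FreeSylow
import Cfsg.Agent.Lib.Blocks.KleinFour
import Mathlib.GroupTheory.PGroup
import Mathlib.GroupTheory.GroupAction.Quotient

/-!
# A group of order nine acting faithfully on an elementary abelian group of order sixteen

`exists_frame`: the group splits as a product of two invariant four-groups, each fixed pointwise by
a subgroup of order three.
-/

set_option autoImplicit false

noncomputable section

namespace CfsgLib.ProductFour

open CfsgLib.FreeSylow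
open scoped Classical

/-- The two factors and the three orbit representatives. -/
structure Frame {P : Type*} [Group P] (E : Subgroup (MulAut P)) where
  V : Fin 2 → Subgroup P
  u : Fin 2 → P
  card_V : ∀ h, Nat.card (V h) = 4
  inf_V : V 0 ⊓ V 1 = ⊥
  split : ∀ w : P, ∃ x ∈ V 0, ∃ y ∈ V 1, w = x * y
  inv : ∀ h, ∀ γ ∈ E, ∀ w ∈ V h, γ w ∈ V h
  u_mem : ∀ h, u h ∈ V h
  u_ne : ∀ h, u h ≠ 1
  fix : ∀ h, ∀ γ ∈ E, γ (u h) = u h → ∀ w ∈ V h, γ w = w
  fix3 : ∀ γ ∈ E, γ (u 0 * u 1) = u 0 * u 1 → γ = 1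
  trans : ∀ h, ∀ w ∈ V (1 - h), w ≠ 1 → ∀ w' ∈ V (1 - h), w' ≠ 1 →
    ∃ γ ∈ E, (∀ v ∈ V h, γ v = v) ∧ γ w = w'
  reps : ∀ w : P, w ≠ 1 → ∃ γ ∈ E, γ w = u 0 ∨ γ w = u 1 ∨ γ w = u 0 * u 1

/-- The fixed subgroup of an automorphism. -/
def fixSub {P : Type*} [Group P] (γ : MulAut P) : Subgroup P := MonoidHom.eqLocus γ.toMonoidHom (MonoidHom.id P)

@[simp] theorem mem_fixSub {P : Type*} [Group P] {γ : MulAut P} {w : P} : w ∈ fixSub γ ↔ γ w = w := Iff.rfl

variable {P : Type*} [Group P] [Finite P]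

theorem card_fix_zpowers (hP : Nat.card P = 16) {γ : MulAut P} (hγ : γ ≠ 1) (h9 : γ ^ 9 = 1) :
    Nat.card (fixSub γ) = 1 ∨ Nat.card (fixSub γ) = 4 := by
  have : Fact (Nat.Prime 3) := ⟨Nat.prime_three⟩
  have : Finite (MulAut P) := Finite.of_injective (fun σ : MulAut P => (σ : P → P)) DFunLike.coe_injective
  have hL : IsPGroup 3 (Subgroup.zpowers γ) := by
    obtain ⟨j, -, hj⟩ := (Nat.dvd_prime_pow Nat.prime_three).mp
      (show orderOf γ ∣ 3 ^ 2 from orderOf_dvd_of_pow_eq_one h9)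
    exact IsPGroup.of_card (n := j) (by rw [Nat.card_zpowers, hj])
  have hfp : MulAction.fixedPoints (Subgroup.zpowers γ) P = (fixSub γ : Set P) := by
    ext w
    refine ⟨fun h => h ⟨γ, Subgroup.mem_zpowers γ⟩, fun h δ => ?_⟩
    obtain ⟨δ, hδ⟩ := δ
    obtain ⟨i, rfl⟩ := Subgroup.mem_zpowers_iff.mp hδ
    have hle : Subgroup.zpowers γ ≤ MulAction.stabilizer (MulAut P) w :=
      Subgroup.zpowers_le.mpr h
    exact hle (Subgroup.zpow_mem_zpowers γ i)
  have hmod := hL.card_modEq_card_fixedPoints P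
  rw [hfp, hP] at hmod
  have hdvd : Nat.card (fixSub γ) ∣ 2 ^ 4 := by
    rw [show 2 ^ 4 = Nat.card P from hP.symm]; exact Subgroup.card_subgroup_dvd_card _
  have hne : Nat.card (fixSub γ) ≠ 16 := fun h => hγ (MulEquiv.ext fun w => by
    have : fixSub γ = ⊤ := Subgroup.eq_top_of_card_eq _ (h.trans hP.symm)
    simpa [this] using (mem_fixSub (γ := γ) (w := w)).symm)
  obtain ⟨i, hi, he⟩ := (Nat.dvd_prime_pow Nat.prime_two).mp hdvd
  change 16 % 3 = Nat.card (fixSub γ) % 3 at hmod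
  rw [he] at hmod hne ⊢
  interval_cases i <;> simp_all

theorem exists_frame (hP : Nat.card P = 16) (E : Subgroup (MulAut P)) (hE : Nat.card E = 9) :
    Nonempty (Frame E) := by
  have : Fact (Nat.Prime 3) := ⟨Nat.prime_three⟩
  have : Finite (MulAut P) := Finite.of_injective (fun σ : MulAut P => (σ : P → P)) DFunLike.coe_injective
  have := Fintype.ofFinite E
  have := Fintype.ofFinite P
  have hEc : ∀ a b : E, a * b = b * a :=
    IsPGroup.commutative_of_card_eq_prime_sq (p := 3) (by rw [hE]; norm_num)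
  have h9 : ∀ γ : E, (γ : MulAut P) ^ 9 = 1 := fun γ => by
    rw [← Subgroup.coe_pow, ← hE, pow_card_eq_one', Subgroup.coe_one]
  -- the fixed-point counts
  let N : E → ℕ := fun γ => Nat.card (fixSub (γ : MulAut P))
  have hN1 : N 1 = 16 := by
    have : fixSub ((1 : E) : MulAut P) = ⊤ := by ext w; simp
    simp only [N, this, Subgroup.card_top, hP]
  have hN : ∀ γ : E, γ ≠ 1 → N γ = 1 ∨ N γ = 4 := fun γ hγ =>
    card_fix_zpowers hP (fun h => hγ (Subtype.ext h)) (h9 γ)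
  have hburn : 9 ∣ ∑ γ : E, N γ := by
    have := Fintype.ofFinite (Quotient (MulAction.orbitRel E P))
    refine ⟨Fintype.card (Quotient (MulAction.orbitRel E P)), ?_⟩
    have h := MulAction.sum_card_fixedBy_eq_card_orbits_mul_card_group E P
    rw [← Nat.card_eq_fintype_card (α := E), hE, mul_comm] at h
    rw [← h]
    refine Finset.sum_congr rfl fun γ _ => ?_
    rw [← Nat.card_eq_fintype_card]
    rfl
  set S := Finset.univ.filter fun γ : E => γ ≠ 1 ∧ N γ = 4 with hS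
  have hsum : ∑ γ : E, N γ = 24 + 3 * S.card := by
    rw [← Finset.add_sum_erase _ N (Finset.mem_univ (1 : E)), hN1,
      Finset.sum_congr rfl (g := fun γ => 1 + if N γ = 4 then 3 else 0) fun γ hγ => by
        rcases hN γ (Finset.ne_of_mem_erase hγ) with h | h <;> simp [h],
      Finset.sum_add_distrib, Finset.sum_ite, Finset.sum_const_zero, Finset.sum_const, Finset.sum_const,
      Finset.card_erase_of_mem (Finset.mem_univ _), Finset.card_univ, ← Nat.card_eq_fintype_card, hE]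
    have : (Finset.univ.erase (1 : E)).filter (fun γ => N γ = 4) = S := by
      ext γ; simp [hS]
    rw [this]
    simp only [smul_eq_mul]
    omega
  rw [hsum] at hburn
  have hsub : ∀ (F : Subgroup E), (∀ γ ∈ F, γ ≠ 1 → γ ∈ S) → Nat.card F ≤ S.card + 1 := by
    intro F hF
    have h : (Finset.univ.filter fun γ : E => γ ∈ F) ⊆ insert 1 S := fun γ hγ => by
      by_cases h1 : γ = 1
      · simp [h1]
      · exact Finset.mem_insert_of_mem (hF γ (Finset.mem_filter.mp hγ).2 h1)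
    have := (Finset.card_le_card h).trans (Finset.card_insert_le _ _)
    rwa [← Nat.card_eq_finsetCard, Nat.card_congr (Equiv.subtypeEquivRight (q := (· ∈ F))
      fun γ => by simp)] at this
  -- powers keep the fixed points
  have hpow : ∀ (γ δ : E), δ ∈ Subgroup.zpowers γ → fixSub (γ : MulAut P) ≤ fixSub (δ : MulAut P) := by
    intro γ δ hδ w hw
    obtain ⟨i, rfl⟩ := Subgroup.mem_zpowers_iff.mp hδ
    have hle : Subgroup.zpowers γ ≤ MulAction.stabilizer E w := Subgroup.zpowers_le.mpr hw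
    exact hle (Subgroup.zpow_mem_zpowers γ i)
  have hmono : ∀ (γ δ : E), γ ∈ S → δ ∈ Subgroup.zpowers γ → δ ≠ 1 →
      δ ∈ S ∧ fixSub (δ : MulAut P) = fixSub (γ : MulAut P) := by
    intro γ δ hγ hδ hδ1
    have h4 : N γ = 4 := (Finset.mem_filter.mp hγ).2.2
    have hle := Subgroup.card_dvd_of_le (hpow γ δ hδ)
    have hcard : N δ = 4 := by
      rcases hN δ hδ1 with h | h
      · change Nat.card (fixSub (γ : MulAut P)) ∣ N δ at hle
        change Nat.card (fixSub (γ : MulAut P)) = 4 at h4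
        rw [h4, h] at hle
        norm_num at hle
      · exact h
    exact ⟨Finset.mem_filter.mpr ⟨Finset.mem_univ _, hδ1, hcard⟩,
      (Subgroup.eq_of_le_of_card_ge (hpow γ δ hδ) (le_of_eq (hcard.trans h4.symm))).symm⟩
  -- every element of order three
  have h3 : ∀ γ : E, γ ≠ 1 → γ ∈ S → orderOf γ = 3 := by
    intro γ hγ1 hγS
    obtain ⟨j, hj2, hj⟩ := (Nat.dvd_prime_pow Nat.prime_three).mp
      (show orderOf γ ∣ 3 ^ 2 from by have := orderOf_dvd_natCard γ; rw [hE] at this; exact this)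
    interval_cases j
    · exact absurd (orderOf_eq_one_iff.mp (by simpa using hj)) hγ1
    · simpa using hj
    · exfalso
      have htop : Subgroup.zpowers γ = ⊤ := Subgroup.eq_top_of_card_eq _ (by rw [Nat.card_zpowers, hj, hE]; norm_num)
      have := hsub ⊤ fun δ _ h => (hmono γ δ hγS (htop ▸ Subgroup.mem_top δ) h).1
      rw [Subgroup.card_top, hE] at this
      have : S.card ≤ (Finset.univ.erase (1 : E)).card :=
        Finset.card_le_card fun δ hδ => Finset.mem_erase.mpr ⟨(Finset.mem_filter.mp hδ).2.1, Finset.mem_univ _⟩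
      rw [Finset.card_erase_of_mem (Finset.mem_univ _), Finset.card_univ, ← Nat.card_eq_fintype_card, hE] at this
      omega
  obtain ⟨a, ha⟩ : S.Nonempty := Finset.card_pos.mp (by omega)
  have ha1 : a ≠ 1 := (Finset.mem_filter.mp ha).2.1
  obtain ⟨b, hb, hba⟩ : ∃ b ∈ S, b ∉ Subgroup.zpowers a := by
    by_contra hc
    push Not at hc
    have h : S ⊆ (Finset.univ.filter fun γ : E => γ ∈ Subgroup.zpowers a).erase 1 := fun γ hγ =>
      Finset.mem_erase.mpr ⟨(Finset.mem_filter.mp hγ).2.1, Finset.mem_filter.mpr ⟨Finset.mem_univ _, hc γ hγ⟩⟩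
    have h' := Finset.card_le_card h
    have h1m : (1 : E) ∈ Finset.univ.filter fun γ : E => γ ∈ Subgroup.zpowers a :=
      Finset.mem_filter.mpr ⟨Finset.mem_univ _, one_mem _⟩
    have hz : (Finset.univ.filter fun γ : E => γ ∈ Subgroup.zpowers a).card = 3 := by
      rw [← h3 a ha1 ha, ← Nat.card_zpowers, ← Nat.card_eq_finsetCard]
      exact Nat.card_congr (Equiv.subtypeEquivRight fun γ => by simp)
    rw [Finset.card_erase_of_mem h1m, hz] at h'
    have h2 := hsub (Subgroup.zpowers a) fun γ hγ h => (hmono a γ ha hγ h).1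
    rw [Nat.card_zpowers, h3 a ha1 ha] at h2
    omega
  have hb1 : b ≠ 1 := (Finset.mem_filter.mp hb).2.1
  let g : Fin 2 → E := ![a, b]
  have hgS : ∀ h, g h ∈ S := fun h => by fin_cases h <;> simp [g, ha, hb]
  have hgen : ∀ h, ∀ γ : E, γ ∉ Subgroup.zpowers (g h) →
      Subgroup.zpowers (g h) ⊔ Subgroup.zpowers γ = ⊤ := by
    intro h γ hγ
    refine Subgroup.eq_top_of_card_eq _ ?_
    rw [hE]
    have hlt : Nat.card (Subgroup.zpowers (g h)) < Nat.card ↥(Subgroup.zpowers (g h) ⊔ Subgroup.zpowers γ) := by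
      refine lt_of_le_of_ne (Subgroup.card_le_of_le le_sup_left) fun he => hγ ?_
      rw [Subgroup.eq_of_le_of_card_ge le_sup_left he.ge]
      exact Subgroup.mem_sup_right (Subgroup.mem_zpowers γ)
    have hd : Nat.card ↥(Subgroup.zpowers (g h) ⊔ Subgroup.zpowers γ) ∣ 3 ^ 2 :=
      (Subgroup.card_subgroup_dvd_card _).trans (by rw [hE]; norm_num)
    rw [Nat.card_zpowers, h3 _ (Finset.mem_filter.mp (hgS h)).2.1 (hgS h)] at hlt
    obtain ⟨j, hj2, hj⟩ := (Nat.dvd_prime_pow Nat.prime_three).mp hd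
    rw [hj] at hlt ⊢
    interval_cases j <;> simp_all
  have hfixE : ∀ w : P, (a : MulAut P) w = w → (b : MulAut P) w = w → w = 1 := by
    intro w hwa hwb
    by_contra hw1
    have hall : ∀ γ : E, γ ≠ 1 → γ ∈ S := fun γ hγ => by
      refine Finset.mem_filter.mpr ⟨Finset.mem_univ _, hγ, (hN γ hγ).resolve_left fun h => hw1 ?_⟩
      have hle : Subgroup.zpowers a ⊔ Subgroup.zpowers b ≤ MulAction.stabilizer E w :=
        sup_le (Subgroup.zpowers_le.mpr hwa) (Subgroup.zpowers_le.mpr hwb)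
      have hmem : w ∈ fixSub (γ : MulAut P) := hle (by rw [show Subgroup.zpowers a = Subgroup.zpowers (g 0) from rfl, hgen 0 b hba]; exact Subgroup.mem_top γ)
      rw [Subgroup.eq_bot_of_card_eq _ h] at hmem
      exact hmem
    have := hsub ⊤ fun γ _ h => hall γ h
    rw [Subgroup.card_top, hE] at this
    have : S.card ≤ (Finset.univ.erase (1 : E)).card :=
      Finset.card_le_card fun δ hδ => Finset.mem_erase.mpr ⟨(Finset.mem_filter.mp hδ).2.1, Finset.mem_univ _⟩
    rw [Finset.card_erase_of_mem (Finset.mem_univ _), Finset.card_univ, ← Nat.card_eq_fintype_card, hE] at this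
    omega
  let V : Fin 2 → Subgroup P := fun h => fixSub (g h : MulAut P)
  have hV4 : ∀ h, Nat.card (V h) = 4 := fun h => (Finset.mem_filter.mp (hgS h)).2.2
  have hinf : V 0 ⊓ V 1 = ⊥ := (Subgroup.eq_bot_iff_forall _).mpr fun w hw => hfixE w hw.1 hw.2
  have hboth : ∀ h, ∀ w, (g h : MulAut P) w = w → (g (1 - h) : MulAut P) w = w → w = 1 := fun h w h1 h2 => by
    fin_cases h
    · exact hfixE w h1 h2
    · exact hfixE w h2 h1
  have hinv : ∀ h, ∀ γ ∈ E, ∀ w ∈ V h, γ w ∈ V h := by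
    intro h γ hγ w hw
    show (g h : MulAut P) (γ w) = γ w
    have hc := congrArg (fun e : E => (e : MulAut P) w) (hEc (g h) ⟨γ, hγ⟩)
    simp only [Subgroup.coe_mul, MulAut.mul_apply] at hc
    rw [hc, show (g h : MulAut P) w = w from hw]
  have hstab : ∀ h, ∀ γ : E, ∀ w ∈ V h, w ≠ 1 → (γ : MulAut P) w = w → γ ∈ Subgroup.zpowers (g h) := by
    intro h γ w hw hw1 hfix
    by_contra hγ
    refine hw1 ?_
    have hle : Subgroup.zpowers (g h) ⊔ Subgroup.zpowers γ ≤ MulAction.stabilizer E w :=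
      sup_le (Subgroup.zpowers_le.mpr hw) (Subgroup.zpowers_le.mpr hfix)
    rw [hgen h γ hγ] at hle
    exact hboth h w hw (hle (Subgroup.mem_top (g (1 - h))))
  have hu : ∀ h, ∃ w ∈ V h, w ≠ 1 := fun h => by
    have : Nontrivial (V h) := Finite.one_lt_card_iff_nontrivial.mp (by rw [hV4]; norm_num)
    obtain ⟨w, hw⟩ := exists_ne (1 : V h)
    exact ⟨w, w.2, fun h => hw (Subtype.ext h)⟩
  choose u hu hu1 using hu
  have htrans : ∀ h, ∀ w ∈ V (1 - h), w ≠ 1 → ∀ w' ∈ V (1 - h), w' ≠ 1 →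
      ∃ γ ∈ E, (∀ v ∈ V h, γ v = v) ∧ γ w = w' := by
    intro h w hw hw1 w' hw' hw'1
    let f : Subgroup.zpowers (g h) → {v : V (1 - h) // v ≠ 1} := fun γ =>
      ⟨⟨((γ : E) : MulAut P) w, hinv (1 - h) _ (γ : E).2 w hw⟩, fun he => hw1 (by
        simpa using congrArg Subtype.val he)⟩
    have hf : Function.Injective f := by
      intro x y hxy
      have he : ((x : E) : MulAut P) w = ((y : E) : MulAut P) w := congrArg (fun z => z.1.1) hxy
      have hfixw : (((y : E)⁻¹ * (x : E) : E) : MulAut P) w = w := by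
        rw [Subgroup.coe_mul, MulAut.mul_apply, he]
        simp
      have h1 := hstab (1 - h) _ w hw hw1 hfixw
      have h2 : (y : E)⁻¹ * (x : E) ∈ Subgroup.zpowers (g h) := mul_mem (inv_mem y.2) x.2
      have h3' : ∀ z : E, z ∈ Subgroup.zpowers (g h) → z ∈ Subgroup.zpowers (g (1 - h)) → z = 1 := by
        intro z hz1 hz2
        by_contra hz
        have e1 := (hmono (g h) z (hgS h) hz1 hz).2
        have e2 := (hmono (g (1 - h)) z (hgS _) hz2 hz).2
        refine hu1 h (hboth h (u h) (hu h) ?_)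
        have : u h ∈ V (1 - h) := by
          show u h ∈ fixSub _
          rw [← e2, e1]; exact hu h
        exact this
      exact Subtype.ext (inv_mul_eq_one.mp (h3' _ h2 h1)).symm
    have hcard : Nat.card {v : V (1 - h) // v ≠ 1} = 3 := by
      have := Fintype.ofFinite (V (1 - h))
      rw [Nat.card_eq_fintype_card, Fintype.card_subtype_compl, Fintype.card_subtype_eq,
        ← Nat.card_eq_fintype_card, hV4]
    have hsurj : Function.Surjective f := by
      refine (Nat.bijective_iff_injective_and_card f).mpr ⟨hf, ?_⟩ |>.2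
      rw [hcard, Nat.card_zpowers, h3 _ (Finset.mem_filter.mp (hgS h)).2.1 (hgS h)]
    obtain ⟨γ, hγ⟩ := hsurj ⟨⟨w', hw'⟩, fun he => hw'1 (congrArg Subtype.val he)⟩
    exact ⟨_, (γ : E).2, fun v hv => hpow (g h) γ γ.2 hv, congrArg (fun z => z.1.1) hγ⟩
  have hsurj : ∀ w : P, ∃ x ∈ V 0, ∃ y ∈ V 1, w = x * y := by
    have hinj : Function.Injective fun z : V 0 × V 1 => (z.1 : P) * z.2 := by
      intro z z' he
      have h2 : (z'.1 : P)⁻¹ * z.1 = (z'.2 : P) * (z.2 : P)⁻¹ := by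
        rw [eq_mul_inv_iff_mul_eq, mul_assoc]
        simp only at he
        rw [he, inv_mul_cancel_left]
      have h4 : (z'.1 : P)⁻¹ * z.1 ∈ V 1 := by rw [h2]; exact mul_mem z'.2.2 (inv_mem z.2.2)
      have h5 : (z'.1 : P)⁻¹ * z.1 ∈ V 0 := mul_mem (inv_mem z'.1.2) z.1.2
      have h3 : (z'.1 : P)⁻¹ * z.1 ∈ V 0 ⊓ V 1 := ⟨h5, h4⟩
      rw [hinf, Subgroup.mem_bot] at h3
      exact Prod.ext (Subtype.ext (inv_mul_eq_one.mp h3).symm)
        (Subtype.ext (mul_inv_eq_one.mp (h2.symm.trans h3)).symm)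
    intro w
    obtain ⟨z, hz⟩ := ((Nat.bijective_iff_injective_and_card _).mpr
      ⟨hinj, by rw [Nat.card_prod, hV4, hV4, hP]⟩).2 w
    exact ⟨_, z.1.2, _, z.2.2, hz.symm⟩
  refine ⟨{ V := V, u := u, card_V := hV4, inf_V := hinf, split := hsurj, inv := hinv, u_mem := hu, u_ne := hu1,
            fix := fun h γ hγ hfix w hw => hpow (g h) ⟨γ, hγ⟩ (hstab h ⟨γ, hγ⟩ (u h) (hu h) (hu1 h) hfix) hw,
            fix3 := ?_, trans := htrans, reps := ?_ }⟩
  · intro γ hγ hfix
    rw [map_mul] at hfix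
    have h1 : (u 0)⁻¹ * γ (u 0) = u 1 * (γ (u 1))⁻¹ := by
      rw [eq_mul_inv_iff_mul_eq, mul_assoc, hfix, inv_mul_cancel_left]
    have h4 : (u 0)⁻¹ * γ (u 0) ∈ V 1 := by rw [h1]; exact mul_mem (hu 1) (inv_mem (hinv 1 γ hγ _ (hu 1)))
    have h5 : (u 0)⁻¹ * γ (u 0) ∈ V 0 := mul_mem (inv_mem (hu 0)) (hinv 0 γ hγ _ (hu 0))
    have h2 : (u 0)⁻¹ * γ (u 0) ∈ V 0 ⊓ V 1 := ⟨h5, h4⟩
    rw [hinf, Subgroup.mem_bot] at h2
    have f0 : γ (u 0) = u 0 := (inv_mul_eq_one.mp h2).symm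
    have f1 : γ (u 1) = u 1 := (mul_inv_eq_one.mp (h1.symm.trans h2)).symm
    have m0 := hstab 0 ⟨γ, hγ⟩ _ (hu 0) (hu1 0) f0
    have m1 := hstab 1 ⟨γ, hγ⟩ _ (hu 1) (hu1 1) f1
    by_contra hne
    have hne' : (⟨γ, hγ⟩ : E) ≠ 1 := fun h => hne (congrArg Subtype.val h)
    have e0 := (hmono _ _ (hgS 0) m0 hne').2
    have e1 := (hmono _ _ (hgS 1) m1 hne').2
    exact hu1 0 (hboth 0 (u 0) (hu 0) (show u 0 ∈ fixSub (g 1 : MulAut P) by rw [← e1, e0]; exact hu 0))
  · intro w hw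
    obtain ⟨x, hx, y, hy, rfl⟩ := hsurj w
    by_cases hx1 : x = 1
    · subst hx1
      rw [one_mul] at hw ⊢
      obtain ⟨γ, hγ, -, he⟩ := htrans 0 y hy hw (u 1) (hu 1) (hu1 1)
      exact ⟨γ, hγ, Or.inr (Or.inl he)⟩
    by_cases hy1 : y = 1
    · subst hy1
      rw [mul_one] at hw ⊢
      obtain ⟨γ, hγ, -, he⟩ := htrans 1 x hx hw (u 0) (hu 0) (hu1 0)
      exact ⟨γ, hγ, Or.inl he⟩
    · obtain ⟨γ, hγ, hfγ, he⟩ := htrans 0 y hy hy1 (u 1) (hu 1) (hu1 1)
      obtain ⟨δ, hδ, hfδ, he'⟩ := htrans 1 x hx hx1 (u 0) (hu 0) (hu1 0)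
      refine ⟨δ * γ, mul_mem hδ hγ, Or.inr (Or.inr ?_)⟩
      rw [MulAut.mul_apply, map_mul, hfγ x hx, he, map_mul, he', hfδ _ (hu 1)]

end CfsgLib.ProductFour
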