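import Cfsg.Agent.Lib.Blocks.ProductFour.Comb
import Cfsg.Agent.Lib.Blocks.ProductFour.Local
import Cfsg.Agent.Lib.Blocks.ProductFour.Half
import Cfsg.Agent.Lib.BlockArith.RankTrace
import Cfsg.Agent.Lib.Transfer.Frobenius

/-!
# The principal 2-block for an elementary abelian Sylow subgroup of order 16 with inertial quotient of order 9

`counts`: it has sixteen irreducible characters and 2-regular rank nine.
-/

set_option autoImplicit false

noncomputable section

namespace CfsgLib.ProductFour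

open Cfsg CfsgLib.Blocks CfsgLib.Char CfsgLib.FreeSylow CfsgLib.BlockArith
open scoped ComplexConjugate Classical

variable {G : Type*} [Group G] [Fintype G] {M : Ideal AlgInt} [M.IsMaximal] {P : Sylow 2 G}
  (hM : IsPModular 2 M) (hP : Nat.card (P : Subgroup G) = 16) (hexp : ∀ w : (P : Subgroup G), w ^ 2 = 1)
  (F : Frame (autN P))

section basics

include hexp

omit [Fintype G] in
theorem comm_of_exp (a b : (P : Subgroup G)) : a * b = b * a := by
  have hinv : ∀ x : (P : Subgroup G), x⁻¹ = x := fun x =>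
    inv_eq_of_mul_eq_one_left (by rw [← pow_two, hexp x])
  calc a * b = (a * b)⁻¹ := (hinv _).symm
    _ = b * a := by rw [mul_inv_rev, hinv, hinv]

omit [Fintype G] in
theorem isMulCommutative : IsMulCommutative (P : Subgroup G) := ⟨⟨comm_of_exp hexp⟩⟩

omit [Fintype G] in
theorem le_centralizer (w : (P : Subgroup G)) : (P : Subgroup G) ≤ Subgroup.centralizer ({(w : G)} : Set G) :=
  fun v hv => Subgroup.mem_centralizer_singleton_iff.mpr (congrArg Subtype.val (comm_of_exp hexp ⟨v, hv⟩ w))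

theorem exists_pow_two (w : (P : Subgroup G)) : ∃ k : ℕ, orderOf (w : G) = 2 ^ k :=
  CfsgLib.NilBlock.exists_pow_of_mem P.isPGroup' w.2

end basics

omit [Fintype G] in
theorem Frame.u_notMem (h : Fin 2) : F.u h ∉ F.V (1 - h) := by
  intro hm
  refine F.u_ne h ((Subgroup.mem_bot).mp (F.inf_V ▸ (?_ : F.u h ∈ F.V 0 ⊓ F.V 1)))
  fin_cases h
  · exact ⟨F.u_mem 0, hm⟩
  · exact ⟨hm, F.u_mem 1⟩

omit [Fintype G] in
theorem Frame.prod_notMem (h : Fin 2) : F.u 0 * F.u 1 ∉ F.V h := by
  intro hm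
  fin_cases h
  · exact F.u_notMem 1 ((Subgroup.mul_mem_cancel_left _ (F.u_mem 0)).mp hm)
  · exact F.u_notMem 0 ((Subgroup.mul_mem_cancel_right _ (F.u_mem 1)).mp hm)

omit [Fintype G] in
theorem Frame.prod_ne : F.u 0 * F.u 1 ≠ 1 := fun h => F.prod_notMem 0 (by rw [h]; exact one_mem _)

/-- The sign vectors. -/
def sgn : Fin 3 → Fin 4 → ℤ := ![![1, 1, -1, -1], ![1, -1, 1, -1], ![1, -1, -1, 1]]

/-- The regular sum of a character on a section against a function. -/
def regVal (x : G) [Fintype (Subgroup.centralizer ({x} : Set G))]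
    (a : Subgroup.centralizer ({x} : Set G) → ℂ) (χ : IrrCharacter G) : ℂ :=
  ∑ s : Subgroup.centralizer ({x} : Set G),
    (if 2 ∣ orderOf s then 0 else (χ : G → ℂ) (x * (s : G)) * conj (a s))

omit [M.IsMaximal] in
theorem sum_degree_regVal {x : G} (hx : ∃ k : ℕ, orderOf x = 2 ^ k) (hx1 : x ≠ 1)
    [Fintype (Subgroup.centralizer ({x} : Set G))] (a : Subgroup.centralizer ({x} : Set G) → ℂ) :
    ∑ χ : IrrCharacter G, regVal x a χ * (χ : G → ℂ) 1 = 0 := by
  have := Fact.mk Nat.prime_two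
  simp only [regVal, Finset.sum_mul]
  rw [Finset.sum_comm]
  refine Finset.sum_eq_zero fun s _ => ?_
  by_cases hs : 2 ∣ orderOf s
  · simp [hs]
  simp only [if_neg hs]
  rw [Finset.sum_congr rfl (g := fun χ : IrrCharacter G => conj (a s) * ((χ : G → ℂ) 1 * (χ : G → ℂ) (x * (s : G))))
    fun χ _ => by ring, ← Finset.mul_sum, sum_degree_mul_apply, if_neg, mul_zero]
  intro h
  have h1 : IsPPart 2 (x * (s : G)) x :=
    isPPart_mul (commute_of_mem_centralizer s) hx (by rwa [Subgroup.orderOf_coe])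
  rw [h] at h1
  exact hx1 (isPPart_unique h1 ⟨1, one_mul 1, Commute.one_left 1, ⟨0, by simp⟩, by simp⟩)

omit [Fintype G] in
theorem centScal_pm {H : Type*} [Group H] [Fintype H] (φ : IrrCharacter H) {z : H}
    (hz : z ∈ Subgroup.center H) (h2 : z * z = 1) : centScal φ z = 1 ∨ centScal φ z = -1 := by
  have h : centScal φ z * centScal φ z = 1 := by rw [← centScal_mul φ hz, h2, centScal_one]
  exact mul_self_eq_one_iff.mp h

/-- The three vectors of one section. -/
structure HalfData (M : Ideal AlgInt) [M.IsMaximal] (u : G) where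
  a : Fin 3 → IrrCharacter G → ℤ
  zero : ∀ i χ, χ ∉ principalBlock M G → a i χ = 0
  one : ∀ i, a i CfsgLib.Char.irrOne = 1
  par : ∀ i χ, (2 : ℤ) ∣ a i χ - a 0 χ
  orth : ∀ i j, ∑ χ : IrrCharacter G, a i χ * a j χ = if i = j then 16 else 0
  deg : ∀ i, ∑ χ : IrrCharacter G, (a i χ : ℂ) * (χ : G → ℂ) 1 = 0
  cross : ∀ (i : Fin 3) (x : G), (∃ k : ℕ, orderOf x = 2 ^ k) → ¬ IsConj u x →
    ∀ [Fintype (Subgroup.centralizer ({x} : Set G))] (b : Subgroup.centralizer ({x} : Set G) → ℂ),
      ∑ χ : IrrCharacter G, (a i χ : ℂ) * conj (regVal x b χ) = 0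
  expr : ∀ i : Fin 3, ∃ b : Subgroup.centralizer ({u} : Set G) → ℂ,
    ∀ [Fintype (Subgroup.centralizer ({u} : Set G))] (χ : IrrCharacter G),
      (a i χ : ℂ) = 4 / (Nat.card (Subgroup.centralizer ({u} : Set G)) : ℂ) * regVal u b χ
  mu : ∀ [Fintype (Subgroup.centralizer ({u} : Set G))] (χ ψ : IrrCharacter G),
    χ ∈ principalBlock M G → ψ ∈ principalBlock M G →
    16 * ∑ s : Subgroup.centralizer ({u} : Set G),
      (if 2 ∣ orderOf s then 0 else (χ : G → ℂ) (u * (s : G)) * conj ((ψ : G → ℂ) (u * (s : G)))) =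
    (Nat.card (Subgroup.centralizer ({u} : Set G)) : ℂ) * ∑ i, (a i χ : ℂ) * (a i ψ : ℂ)

include hM hP hexp in
theorem exists_halfData (h : Fin 2) : Nonempty (HalfData M ((F.u h : G))) := by
  have := Fact.mk Nat.prime_two
  set u : G := (F.u h : G) with hu
  let instH := Fintype.ofFinite (Subgroup.centralizer ({u} : Set G))
  have hle : (P : Subgroup G) ≤ Subgroup.centralizer ({u} : Set G) := le_centralizer hexp (F.u h)
  let Q : Sylow 2 (Subgroup.centralizer ({u} : Set G)) := P.subtype hle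
  let ι : (Q : Subgroup (Subgroup.centralizer ({u} : Set G))) →* (P : Subgroup G) :=
    MonoidHom.mk' (fun w => ⟨((w : Subgroup.centralizer ({u} : Set G)) : G), w.2⟩) fun _ _ => rfl
  have hιinj : Function.Injective ι := fun a b he =>
    Subtype.ext (Subtype.ext (congrArg (fun z : (P : Subgroup G) => (z : G)) he))
  have hιsurj : Function.Surjective ι := fun w => ⟨⟨⟨w, hle w.2⟩, w.2⟩, rfl⟩
  have hQab : IsMulCommutative (Q : Subgroup (Subgroup.centralizer ({u} : Set G))) :=
    ⟨⟨fun a b => hιinj (by rw [map_mul, map_mul, comm_of_exp hexp])⟩⟩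
  have hQexp : ∀ w : (Q : Subgroup (Subgroup.centralizer ({u} : Set G))), w ^ 2 = 1 := fun w =>
    hιinj (by rw [map_pow, map_one, hexp])
  have hQ16 : Nat.card (Q : Subgroup (Subgroup.centralizer ({u} : Set G))) = 16 :=
    (Nat.card_eq_of_bijective ι ⟨hιinj, hιsurj⟩).trans hP
  let W : Subgroup (Q : Subgroup (Subgroup.centralizer ({u} : Set G))) := (F.V (1 - h)).comap ι
  have hW4 : Nat.card W = 4 := by
    rw [← F.card_V (1 - h)]
    refine Nat.card_eq_of_bijective (fun w => (⟨ι w.1, w.2⟩ : F.V (1 - h))) ⟨fun a b he => ?_, fun v => ?_⟩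
    · exact Subtype.ext (hιinj (congrArg Subtype.val he))
    · obtain ⟨w, hw⟩ := hιsurj v.1
      exact ⟨⟨w, Subgroup.mem_comap.mpr (by rw [hw]; exact v.2)⟩, Subtype.ext hw⟩
  have hfwd : ∀ γ ∈ autN Q, ∃ γ' ∈ autN P, γ' (F.u h) = F.u h ∧ ∀ w, ι (γ w) = γ' (ι w) := by
    intro γ hγ
    obtain ⟨n, hn, hnw⟩ := mem_autN_iff.mp hγ
    have hnN : (n : G) ∈ Subgroup.normalizer ((P : Subgroup G) : Set G) := by
      refine Subgroup.mem_set_normalizer_iff.mpr fun v => ⟨fun hv => ?_, fun hv => ?_⟩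
      · exact (Subgroup.mem_set_normalizer_iff.mp hn ⟨v, hle hv⟩).mp hv
      · have hvC : v ∈ Subgroup.centralizer ({u} : Set G) := by
          have h1 := mul_mem (mul_mem (inv_mem n.2) (hle hv)) n.2
          simpa [mul_assoc] using h1
        exact (Subgroup.mem_set_normalizer_iff.mp hn ⟨v, hvC⟩).mpr hv
    refine ⟨(P : Subgroup G).normalizerMonoidHom ⟨n, hnN⟩, ⟨_, rfl⟩, Subtype.ext ?_, fun w => Subtype.ext ?_⟩
    · show (n : G) * u * (n : G)⁻¹ = u
      rw [Subgroup.mem_centralizer_singleton_iff.mp n.2, mul_inv_cancel_right]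
    · have h1 := congrArg Subtype.val (hnw w)
      exact h1
  have hW : ∀ γ ∈ autN Q, ∀ w, w⁻¹ * γ w ∈ W := by
    intro γ hγ w
    obtain ⟨γ', hγ', hfix, hval⟩ := hfwd γ hγ
    have hfixV := F.fix h γ' hγ' hfix
    rw [Subgroup.mem_comap, map_mul, map_inv, hval]
    obtain ⟨x, hx, y, hy, he⟩ := F.split (ι w)
    rw [he, map_mul, comm_of_exp hexp (γ' x) (γ' y)]
    fin_cases h
    · rw [hfixV x hx, mul_inv_rev, comm_of_exp hexp (γ' y) x, mul_assoc, inv_mul_cancel_left]
      exact mul_mem (inv_mem hy) (F.inv _ γ' hγ' y hy)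
    · rw [hfixV y hy, mul_inv_rev, comm_of_exp hexp y⁻¹ x⁻¹, mul_assoc, inv_mul_cancel_left]
      exact mul_mem (inv_mem hx) (F.inv _ γ' hγ' x hx)
  have htr : ∀ w ∈ W, w ≠ 1 → ∀ w' ∈ W, w' ≠ 1 → ∃ γ ∈ autN Q, γ w = w' := by
    intro w hw hw1 w' hw' hw'1
    have hi : ∀ z, z ≠ 1 → ι z ≠ 1 := fun z hz he => hz (hιinj (he.trans (map_one ι).symm))
    obtain ⟨γ', hγ', hfix, he⟩ := F.trans h (ι w) hw (hi w hw1) (ι w') hw' (hi w' hw'1)
    obtain ⟨n, hn, hnw⟩ := mem_autN_iff.mp hγ'
    have hnu : n ∈ Subgroup.centralizer ({u} : Set G) := by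
      have h1 := hnw (F.u h)
      rw [hfix _ (F.u_mem h)] at h1
      exact Subgroup.mem_centralizer_singleton_iff.mpr (eq_mul_inv_iff_mul_eq.mp h1).symm
    have hnN : (⟨n, hnu⟩ : Subgroup.centralizer ({u} : Set G)) ∈
        Subgroup.normalizer ((Q : Subgroup (Subgroup.centralizer ({u} : Set G))) :
          Set (Subgroup.centralizer ({u} : Set G))) :=
      Subgroup.mem_set_normalizer_iff.mpr fun v => Subgroup.mem_set_normalizer_iff.mp hn (v : G)
    refine ⟨(Q : Subgroup (Subgroup.centralizer ({u} : Set G))).normalizerMonoidHom ⟨_, hnN⟩, ⟨_, rfl⟩,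
      hιinj (Subtype.ext ?_)⟩
    rw [← he, hnw]
    rfl
  obtain ⟨f, δ, hf0, hδ0, hδ, hfB, hfcov, hgram⟩ := exists_regular_basis hM Q hQab hQ16 hQexp W hW4 hW htr
  set N : ℂ := (Nat.card (Subgroup.centralizer ({u} : Set G)) : ℂ) with hN
  have hN0 : N ≠ 0 := CfsgLib.Char.card_ne_zero'
  let α : Fin 3 → Subgroup.centralizer ({u} : Set G) → ℂ := fun i s =>
    ∑ b, ((sgn i b * δ b : ℤ) : ℂ) * (f b : _ → ℂ) s
  have hfα : ∀ c i, 16 * ∑ s : Subgroup.centralizer ({u} : Set G),
      (if 2 ∣ orderOf s then 0 else (f c : _ → ℂ) s * conj (α i s)) = 4 * N * ((sgn i c * δ c : ℤ) : ℂ) := by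
    intro c i
    have h1 : ∑ s : Subgroup.centralizer ({u} : Set G),
        (if 2 ∣ orderOf s then 0 else (f c : _ → ℂ) s * conj (α i s)) =
        ∑ b, ((sgn i b * δ b : ℤ) : ℂ) * ∑ s : Subgroup.centralizer ({u} : Set G),
          (if 2 ∣ orderOf s then 0 else (f c : _ → ℂ) s * conj ((f b : _ → ℂ) s)) := by
      simp only [Finset.mul_sum]
      rw [Finset.sum_comm]
      refine Finset.sum_congr rfl fun s _ => ?_
      split_ifs with hs
      · simp
      · simp only [α, map_sum, map_mul, map_intCast, Finset.mul_sum]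
        exact Finset.sum_congr rfl fun b _ => by ring
    rw [h1, Finset.mul_sum, Finset.sum_congr rfl fun b _ => by rw [mul_left_comm, hgram c b]]
    have hsum : ∑ b, ((sgn i b : ℤ) : ℂ) = 0 := by
      fin_cases i <;> simp [sgn, Fin.sum_univ_four]
    have hδ2 : ∀ b, (δ b : ℂ) * (δ b : ℂ) = 1 := fun b => by
      rcases hδ b with h' | h' <;> rw [h'] <;> norm_num
    rw [Finset.sum_congr rfl (g := fun b => 4 * N * (if c = b then ((sgn i b * δ b : ℤ) : ℂ) else 0) -
      N * (δ c : ℂ) * (sgn i b : ℂ)) fun b _ => by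
        push_cast
        have := hδ2 b
        split_ifs <;> linear_combination (-(N * (δ c : ℂ) * (sgn i b : ℂ))) * this,
      Finset.sum_sub_distrib, ← Finset.mul_sum, ← Finset.mul_sum, hsum, Finset.sum_ite_eq,
      if_pos (Finset.mem_univ c), mul_zero, sub_zero]
  have hαcl : ∀ i (s c : Subgroup.centralizer ({u} : Set G)), α i (c * s * c⁻¹) = α i s := fun i s c => by
    simp only [α]
    exact Finset.sum_congr rfl fun b _ => by rw [isClassFunction_of_isIrr (f b).2 s c]
  have hαα : ∀ i j, ∑ s : Subgroup.centralizer ({u} : Set G),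
      (if 2 ∣ orderOf s then 0 else α j s * conj (α i s)) = if i = j then N else 0 := by
    intro i j
    have h1 : 16 * ∑ s : Subgroup.centralizer ({u} : Set G),
        (if 2 ∣ orderOf s then 0 else α j s * conj (α i s)) =
        ∑ c, ((sgn j c * δ c : ℤ) : ℂ) * (4 * N * ((sgn i c * δ c : ℤ) : ℂ)) := by
      simp only [← hfα, Finset.mul_sum]
      rw [Finset.sum_comm]
      refine Finset.sum_congr rfl fun s _ => ?_
      split_ifs with hs
      · simp
      · rw [show α j s = ∑ c, ((sgn j c * δ c : ℤ) : ℂ) * (f c : _ → ℂ) s from rfl, Finset.sum_mul, Finset.mul_sum]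
        exact Finset.sum_congr rfl fun c _ => by ring
    have h2 : ∑ c, (((sgn j c * δ c : ℤ) : ℂ) * (4 * N * ((sgn i c * δ c : ℤ) : ℂ))) =
        if i = j then 16 * N else 0 := by
      rcases hδ 0 with d0 | d0 <;> rcases hδ 1 with d1 | d1 <;> rcases hδ 2 with d2 | d2 <;>
        rcases hδ 3 with d3 | d3 <;> fin_cases i <;> fin_cases j <;>
        simp [sgn, Fin.sum_univ_four, d0, d1, d2, d3] <;> ring
    rw [h2] at h1
    split_ifs at h1 ⊢ with hij
    · exact mul_left_cancel₀ (by norm_num : (16 : ℂ) ≠ 0) h1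
    · exact (mul_eq_zero.mp h1).resolve_left (by norm_num)
  let A : Fin 3 → IrrCharacter G → ℂ := fun i χ => 4 / N * regVal u (α i) χ
  have hx : ∃ k : ℕ, orderOf u = 2 ^ k := exists_pow_two hexp (F.u h)
  have hA0 : ∀ i χ, χ ∉ principalBlock M G → A i χ = 0 := by
    intro i χ hχ
    have h1 : regVal u (α i) χ = ∑ b, ((sgn i b * δ b : ℤ) : ℂ) * regVal u (f b : _ → ℂ) χ := by
      simp only [regVal, Finset.mul_sum]
      rw [Finset.sum_comm]
      refine Finset.sum_congr rfl fun s _ => ?_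
      split_ifs with hs
      · simp
      · simp only [α, map_sum, map_mul, map_intCast, Finset.mul_sum]
        exact Finset.sum_congr rfl fun b _ => by ring
    refine mul_eq_zero_of_right _ (h1.trans (Finset.sum_eq_zero fun b _ => mul_eq_zero_of_right _ ?_))
    have h2 := sum_regular_section hM hx χ (hfB b)
    rw [if_neg hχ] at h2
    exact h2
  -- coefficients on the section
  have hcoef : ∀ χ : IrrCharacter G, ∃ c : Fin 4 → ℤ, χ ∈ principalBlock M G →
      ∀ s : Subgroup.centralizer ({u} : Set G), ¬ 2 ∣ orderOf s →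
        (χ : G → ℂ) (u * (s : G)) = ∑ b, (c b : ℂ) * (f b : _ → ℂ) s := by
    intro χ
    have huC : u ∈ Subgroup.centralizer ({u} : Set G) := Subgroup.mem_centralizer_singleton_iff.mpr rfl
    have hint : ∀ ζ : IrrCharacter (Subgroup.centralizer ({u} : Set G)), ∃ m : ℤ,
        classInner (fun c : Subgroup.centralizer ({u} : Set G) => (χ : G → ℂ) (u * (c : G))) (ζ : _ → ℂ) = m := by
      intro ζ
      obtain ⟨n, hn⟩ := classInner_char_nat (isCharacter_res (Subgroup.centralizer ({u} : Set G))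
        (isCharacter_of_isIrr χ.2)) (isCharacter_of_isIrr ζ.2)
      rw [CfsgLib.BlockArith.classInner_shift huC, hn]
      have hsq : (⟨u, huC⟩ : Subgroup.centralizer ({u} : Set G)) * ⟨u, huC⟩ = 1 := by
        refine Subtype.ext ?_
        show u * u = 1
        rw [hu, ← Subgroup.coe_mul, ← pow_two, hexp, Subgroup.coe_one]
      rcases centScal_pm ζ (CfsgLib.BlockArith.mem_center_centralizer huC) hsq with h' | h'
      · exact ⟨n, by rw [h', one_mul]; norm_num⟩
      · exact ⟨-(n : ℤ), by rw [h']; norm_num⟩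
    choose m hm using hint
    have hπ : ∀ ζ : IrrCharacter (Subgroup.centralizer ({u} : Set G)), ∃ b,
        ζ ∈ principalBlock M (Subgroup.centralizer ({u} : Set G)) → ∀ s : Subgroup.centralizer ({u} : Set G),
          ¬ 2 ∣ orderOf s → (ζ : _ → ℂ) s = (f b : _ → ℂ) s := fun ζ => by
      by_cases hζ : ζ ∈ principalBlock M (Subgroup.centralizer ({u} : Set G))
      · obtain ⟨b, hb⟩ := hfcov ζ hζ
        exact ⟨b, fun _ => hb⟩
      · exact ⟨0, fun h' => absurd h' hζ⟩
    choose π hπ using hπ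
    refine ⟨fun b => ∑ ζ ∈ Finset.univ.filter (fun ζ => ζ ∈ principalBlock M (Subgroup.centralizer ({u} : Set G)) ∧
      π ζ = b), m ζ, fun hχ s hs => ?_⟩
    have h1 := principal_section hM hx χ hs
    rw [if_pos hχ] at h1
    rw [← h1, blockPart_apply, ← Finset.sum_filter,
      ← Finset.sum_fiberwise_of_maps_to (t := (Finset.univ : Finset (Fin 4))) (g := π) fun _ _ => Finset.mem_univ _]
    refine Finset.sum_congr rfl fun b _ => ?_
    rw [Finset.filter_filter, Int.cast_sum, Finset.sum_mul]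
    refine Finset.sum_congr rfl fun ζ hζ => ?_
    obtain ⟨hζB, rfl⟩ := (Finset.mem_filter.mp hζ).2
    rw [hm, hπ ζ hζB s hs]
  choose c hc using hcoef
  have hAc : ∀ i χ, χ ∈ principalBlock M G → A i χ = ((∑ b, c χ b * (sgn i b * δ b) : ℤ) : ℂ) := by
    intro i χ hχ
    have h1 : 16 * regVal u (α i) χ = ∑ b, (c χ b : ℂ) * (4 * N * ((sgn i b * δ b : ℤ) : ℂ)) := by
      simp only [regVal, ← hfα, Finset.mul_sum]
      rw [Finset.sum_comm]
      refine Finset.sum_congr rfl fun s _ => ?_
      split_ifs with hs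
      · simp
      · rw [hc χ hχ s hs, Finset.sum_mul, Finset.mul_sum]
        exact Finset.sum_congr rfl fun b _ => by ring
    show 4 / N * regVal u (α i) χ = _
    rw [div_mul_eq_mul_div, div_eq_iff hN0, Int.cast_sum, Finset.sum_mul]
    refine mul_left_cancel₀ (by norm_num : (4 : ℂ) ≠ 0) ?_
    rw [← mul_assoc, show (4 : ℂ) * 4 = 16 by norm_num, h1, Finset.mul_sum]
    exact Finset.sum_congr rfl fun b _ => by push_cast; ring
  let aZ : Fin 3 → IrrCharacter G → ℤ := fun i χ =>
    if χ ∈ principalBlock M G then ∑ b, c χ b * (sgn i b * δ b) else 0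
  have haA : ∀ i χ, (aZ i χ : ℂ) = A i χ := fun i χ => by
    by_cases hχ : χ ∈ principalBlock M G
    · rw [hAc i χ hχ]; simp [aZ, hχ]
    · rw [hA0 i χ hχ]; simp [aZ, hχ]
  refine ⟨{ a := aZ, zero := fun i χ hχ => by simp [aZ, hχ], one := fun i => ?_, par := fun i χ => ?_,
            orth := fun i j => ?_, deg := fun i => ?_, cross := ?_, expr := fun i => ⟨α i, ?_⟩,
            mu := ?_ }⟩
  · apply Int.cast_injective (α := ℂ)
    rw [haA]
    show 4 / N * regVal u (α i) CfsgLib.Char.irrOne = _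
    have h1 : 16 * regVal u (α i) CfsgLib.Char.irrOne = 4 * N * ((sgn i 0 * δ 0 : ℤ) : ℂ) := by
      rw [← hfα 0 i, hf0]
      rfl
    have hs : sgn i 0 * δ 0 = 1 := by rw [hδ0]; fin_cases i <;> simp [sgn]
    rw [hs] at h1
    field_simp
    linear_combination h1 / 4
  · by_cases hχ : χ ∈ principalBlock M G
    · simp only [aZ, if_pos hχ, ← Finset.sum_sub_distrib]
      refine Finset.dvd_sum fun b _ => ?_
      rw [← mul_sub, ← sub_mul]
      refine Dvd.dvd.mul_left (Dvd.dvd.mul_right ?_ _) _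
      fin_cases i <;> fin_cases b <;> simp [sgn]
    · simp [aZ, hχ]
  · apply Int.cast_injective (α := ℂ)
    push_cast
    have h1 : ∀ χ, (aZ i χ : ℂ) * (aZ j χ : ℂ) = A i χ * conj (A j χ) := fun χ => by
      rw [← haA, ← haA, map_intCast]
    simp only [h1, A, map_mul, map_div₀, Complex.conj_natCast, hN, map_ofNat]
    rw [Finset.sum_congr rfl (g := fun χ => 4 / N * (4 / N) * (regVal u (α i) χ * conj (regVal u (α j) χ)))
      fun χ _ => by rw [hN]; ring, ← Finset.mul_sum]
    simp only [regVal]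
    rw [sum_products_self hx (α i) (α j) (hαcl j), hαα i j, ← hN]
    split_ifs
    · push_cast; field_simp; ring
    · simp
  · simp only [haA, A, mul_assoc]
    rw [← Finset.mul_sum, sum_degree_regVal hx
      (fun h' => F.u_ne h (Subtype.ext h')) (α i), mul_zero]
  · intro i x hx' hux _ b
    simp only [haA, A, mul_assoc]
    rw [← Finset.mul_sum]
    simp only [regVal]
    rw [sum_products_of_not_isConj hx hx' hux (α i) b, mul_zero]
  · intro inst χ
    obtain rfl : inst = instH := Subsingleton.elim _ _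
    rw [haA]
  · intro inst χ ψ hχ hψ
    obtain rfl : inst = instH := Subsingleton.elim _ _
    have h1 : ∑ s : Subgroup.centralizer ({u} : Set G),
        (if 2 ∣ orderOf s then 0 else (χ : G → ℂ) (u * (s : G)) * conj ((ψ : G → ℂ) (u * (s : G)))) =
        ∑ a, ∑ b, (c χ a : ℂ) * (c ψ b : ℂ) * ∑ s : Subgroup.centralizer ({u} : Set G),
          (if 2 ∣ orderOf s then 0 else (f a : _ → ℂ) s * conj ((f b : _ → ℂ) s)) := by
      simp only [Finset.mul_sum]
      rw [Finset.sum_congr rfl fun a _ => Finset.sum_comm, Finset.sum_comm]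
      refine Finset.sum_congr (by ext; simp) fun s _ => ?_
      split_ifs with hs
      · simp
      · rw [hc χ hχ s hs, hc ψ hψ s hs, map_sum, Finset.sum_mul_sum]
        simp only [map_mul, map_intCast]
        exact Finset.sum_congr rfl fun a _ => Finset.sum_congr rfl fun b _ => by ring
    rw [h1, Finset.mul_sum, Finset.sum_congr rfl fun a _ => by
      rw [Finset.mul_sum, Finset.sum_congr rfl fun b _ => by rw [mul_left_comm, hgram a b]]]
    simp only [aZ, if_pos hχ, if_pos hψ, Fin.sum_univ_four, Fin.sum_univ_three, sgn]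
    rcases hδ 0 with d0 | d0 <;> rcases hδ 1 with d1 | d1 <;> rcases hδ 2 with d2 | d2 <;>
      rcases hδ 3 with d3 | d3 <;> simp [d0, d1, d2, d3, hN] <;> ring

section last

include hM hP hexp F in
/-- The sixteen characters and the rank nine. -/
theorem counts_of_frame :
    Nat.card (principalBlock M G) = 16 ∧ blockRank 2 (principalBlock M G) = 9 := by
  have := Fact.mk Nat.prime_two
  obtain ⟨T0⟩ := exists_halfData hM hP hexp F 0
  obtain ⟨T1⟩ := exists_halfData hM hP hexp F 1
  let T : ∀ h, HalfData M ((F.u h : G)) := Fin.cons T0 (Fin.cons T1 finZeroElim)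
  have hab := isMulCommutative (P := P) hexp
  set w₃ : (P : Subgroup G) := F.u 0 * F.u 1 with hw₃
  set x₃ : G := (w₃ : G) with hx₃d
  let inst₃ := Fintype.ofFinite (Subgroup.centralizer ({x₃} : Set G))
  have hx₃ : ∃ k : ℕ, orderOf x₃ = 2 ^ k := exists_pow_two hexp _
  have hle := le_centralizer hexp w₃
  set R : Sylow 2 (Subgroup.centralizer ({x₃} : Set G)) := P.subtype hle with hRd
  have hburn : HasNormalPComplement 2 (Subgroup.centralizer ({x₃} : Set G)) := by
    refine CfsgLib.Transfer.hasNormalPComplement_of_normalizer_le_centralizer R fun c hc => ?_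
    have hcN : (c : G) ∈ Subgroup.normalizer ((P : Subgroup G) : Set G) := by
      refine Subgroup.mem_set_normalizer_iff.mpr fun w => ⟨fun hw => ?_, fun hw => ?_⟩
      · exact (Subgroup.mem_set_normalizer_iff.mp hc ⟨w, hle hw⟩).mp hw
      · have hwC : w ∈ Subgroup.centralizer ({x₃} : Set G) := by
          have h1 := mul_mem (mul_mem (inv_mem c.2) (hle hw)) c.2
          simpa [mul_assoc] using h1
        exact (Subgroup.mem_set_normalizer_iff.mp hc ⟨w, hwC⟩).mpr hw
    have hγ : (P : Subgroup G).normalizerMonoidHom ⟨c, hcN⟩ = 1 := by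
      refine F.fix3 _ ⟨_, rfl⟩ (Subtype.ext ?_)
      show (c : G) * x₃ * (c : G)⁻¹ = x₃
      rw [Subgroup.mem_centralizer_singleton_iff.mp c.2, mul_inv_cancel_right]
    refine Subgroup.mem_centralizer_iff.mpr fun w hw => Subtype.ext ?_
    have h1 : (c : G) * (w : G) * (c : G)⁻¹ = (w : G) :=
      congrArg (fun γ : MulAut (P : Subgroup G) => ((γ ⟨(w : G), hw⟩ : (P : Subgroup G)) : G)) hγ
    exact (mul_inv_eq_iff_eq_mul.mp h1).symm
  obtain ⟨N₀, hN₀, hcop, k₀, hk₀⟩ := CfsgLib.Transfer.hasNormalPComplement_iff.mp hburn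
  have hnc : ∃ k : ℕ, (pPrimeCore 2 (Subgroup.centralizer ({x₃} : Set G))).index = 2 ^ k := by
    obtain ⟨j, -, hj⟩ := (Nat.dvd_prime_pow Nat.prime_two).mp
      (hk₀ ▸ Subgroup.index_dvd_of_le (@CfsgLib.Cores.le_pPrimeCore _ _ 2 N₀ hN₀ hcop))
    exact ⟨j, hj⟩
  have hreg3 : 16 * ∑ s : Subgroup.centralizer ({x₃} : Set G), (if 2 ∣ orderOf s then (0 : ℂ) else 1) =
      (Nat.card (Subgroup.centralizer ({x₃} : Set G)) : ℂ) := by
    obtain ⟨k, hk⟩ := hnc
    have hcore := CfsgLib.Cores.not_dvd_card_pPrimeCore (G := Subgroup.centralizer ({x₃} : Set G)) 2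
    have hiff : ∀ s : Subgroup.centralizer ({x₃} : Set G),
        s ∈ pPrimeCore 2 (Subgroup.centralizer ({x₃} : Set G)) ↔ ¬ 2 ∣ orderOf s := by
      refine fun s => ⟨fun h hd => hcore (hd.trans (Subgroup.orderOf_dvd_natCard _ h)), fun h => ?_⟩
      have := CfsgLib.Cores.pPrimeCore_characteristic (G := Subgroup.centralizer ({x₃} : Set G)) 2
      exact mem_of_index_pow Nat.prime_two ⟨k, hk⟩ h
    have hP2 : Nat.card (P : Subgroup G) = 2 ^ k := by
      rw [← Nat.card_congr (Subgroup.subgroupOfEquivOfLe hle).toEquiv]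
      change Nat.card (R : Subgroup (Subgroup.centralizer ({x₃} : Set G))) = _
      rw [R.card_eq_multiplicity, ← (pPrimeCore 2 (Subgroup.centralizer ({x₃} : Set G))).card_mul_index, hk,
        Nat.factorization_mul Nat.card_pos.ne' (by positivity), Finsupp.add_apply,
        Nat.factorization_eq_zero_of_not_dvd hcore, Nat.Prime.factorization_pow Nat.prime_two,
        Finsupp.single_eq_same, zero_add]
    have hsum : ∑ s : Subgroup.centralizer ({x₃} : Set G), (if 2 ∣ orderOf s then (0 : ℂ) else 1) =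
        (Nat.card (pPrimeCore 2 (Subgroup.centralizer ({x₃} : Set G))) : ℂ) := by
      rw [Finset.sum_ite, Finset.sum_const_zero, zero_add, Finset.sum_const, nsmul_one, ← Nat.card_eq_finsetCard]
      exact_mod_cast Nat.card_congr (Equiv.subtypeEquivRight fun s => by simp [hiff])
    rw [hsum, ← (pPrimeCore 2 (Subgroup.centralizer ({x₃} : Set G))).card_mul_index, hk, ← hP2, hP]
    push_cast; ring
  -- the fourth vector
  let N₃ : ℂ := (Nat.card (Subgroup.centralizer ({x₃} : Set G)) : ℂ)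
  have hN₃ : N₃ ≠ 0 := CfsgLib.Char.card_ne_zero'
  have hx₃1 : x₃ ≠ 1 := fun h => F.prod_ne (Subtype.ext h)
  have hx₃o : orderOf x₃ = 2 := orderOf_eq_prime (by
    rw [hx₃d, ← SubmonoidClass.coe_pow, hexp, Subgroup.coe_one]) hx₃1
  choose v hv using fun χ : IrrCharacter G => exists_int_value χ hx₃o
  let d : IrrCharacter G → ℤ := fun χ => if χ ∈ principalBlock M G then v χ else 0
  have hdC : ∀ χ, (d χ : ℂ) = 16 / N₃ * regVal x₃ (fun _ => 1) χ := by
    intro χ
    by_cases hχ : χ ∈ principalBlock M G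
    · have h1 : regVal x₃ (fun _ => 1) χ = (v χ : ℂ) *
          ∑ s : Subgroup.centralizer ({x₃} : Set G), (if 2 ∣ orderOf s then (0 : ℂ) else 1) := by
        rw [regVal, Finset.mul_sum]
        refine Finset.sum_congr rfl fun s _ => ?_
        split_ifs with hs
        · simp
        · rw [principal_section_const hM hx₃ hnc hχ hs, hv, map_one]
      simp only [d, if_pos hχ, h1]
      rw [div_mul_eq_mul_div, eq_div_iff hN₃, show N₃ = _ from hreg3.symm]
      ring
    · have h1 := sum_regular_section hM hx₃ χ (ζ := CfsgLib.Char.irrOne) irrOne_mem_principalBlock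
      rw [if_neg hχ] at h1
      simp only [d, if_neg hχ, Int.cast_zero]
      rw [show regVal x₃ (fun _ => 1) χ = 0 from h1, mul_zero]
  -- conjugacy
  have hnc' : ∀ {w w' : (P : Subgroup G)} {h : Fin 2}, w ∈ F.V h → w' ∉ F.V h → ¬ IsConj (w : G) (w' : G) := by
    intro w w' h hw hw' hc
    obtain ⟨γ, hγ, he⟩ := exists_autN hab hc
    exact hw' (he ▸ F.inv h γ hγ w hw)
  have hu01 : ¬ IsConj ((F.u 0 : G)) ((F.u 1 : G)) := hnc' (F.u_mem 0) (F.u_notMem 1)
  have hu3 : ∀ h, ¬ IsConj ((F.u h : G)) x₃ := fun h => hnc' (F.u_mem h) (F.prod_notMem h)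
  have hu_ne1 : ∀ h, (F.u h : G) ≠ 1 := fun h he => F.u_ne h (Subtype.ext he)
  set X : Finset G := {1, (F.u 0 : G), (F.u 1 : G), x₃} with hX
  have hXpow : ∀ x ∈ X, ∃ k : ℕ, orderOf x = 2 ^ k := by
    intro x hx
    simp only [hX, Finset.mem_insert, Finset.mem_singleton] at hx
    rcases hx with rfl | rfl | rfl | rfl
    · exact ⟨0, by simp⟩
    · exact exists_pow_two hexp _
    · exact exists_pow_two hexp _
    · exact hx₃
  have hone : ∀ {y : G}, IsConj 1 y → y = 1 := fun h => (isConj_one_right.mp h)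
  have hXdist : ∀ x ∈ X, ∀ y ∈ X, IsConj x y → x = y := by
    intro x hx y hy hc
    simp only [hX, Finset.mem_insert, Finset.mem_singleton] at hx hy
    rcases hx with rfl | rfl | rfl | rfl <;> rcases hy with rfl | rfl | rfl | rfl <;>
      first
        | rfl
        | exact absurd (hone hc) (hu_ne1 0) | exact absurd (hone hc.symm) (hu_ne1 0)
        | exact absurd (hone hc) (hu_ne1 1) | exact absurd (hone hc.symm) (hu_ne1 1)
        | exact absurd (hone hc) hx₃1 | exact absurd (hone hc.symm) hx₃1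
        | exact absurd hc hu01 | exact absurd hc.symm hu01
        | exact absurd hc (hu3 0) | exact absurd hc.symm (hu3 0)
        | exact absurd hc (hu3 1) | exact absurd hc.symm (hu3 1)
  have hXu : ∀ g : G, (∃ k : ℕ, orderOf g = 2 ^ k) → ∃! x, x ∈ X ∧ IsConj g x := by
    intro g hg
    obtain ⟨x, hx⟩ := exists_conj_mem P hg
    suffices ∃ y ∈ X, IsConj g y by
      obtain ⟨y, hy, hgy⟩ := this
      exact ⟨y, ⟨hy, hgy⟩, fun z hz => hXdist z hz.1 y hy (hz.2.symm.trans hgy)⟩
    have hgx : IsConj g ((⟨_, hx⟩ : (P : Subgroup G)) : G) := isConj_iff.mpr ⟨x, rfl⟩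
    by_cases h1 : (⟨_, hx⟩ : (P : Subgroup G)) = 1
    · rw [h1, Subgroup.coe_one] at hgx
      exact ⟨1, by simp [hX], hgx⟩
    · obtain ⟨γ, hγ, he⟩ := F.reps _ h1
      obtain ⟨n, -, hn⟩ := mem_autN_iff.mp hγ
      have hc : IsConj g ((γ ⟨_, hx⟩ : (P : Subgroup G)) : G) :=
        hgx.trans (by rw [hn]; exact isConj_iff.mpr ⟨n, rfl⟩)
      rcases he with he | he | he <;> rw [he] at hc
      · exact ⟨_, by simp [hX], hc⟩
      · exact ⟨_, by simp [hX], hc⟩
      · exact ⟨_, by simp [hX, hx₃d, hw₃], hc⟩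
  have hdist : ((1 : G) ∉ ({(F.u 0 : G), (F.u 1 : G), x₃} : Finset G)) ∧
      ((F.u 0 : G) ∉ ({(F.u 1 : G), x₃} : Finset G)) ∧ ((F.u 1 : G) ∉ ({x₃} : Finset G)) := by
    simp only [Finset.mem_insert, Finset.mem_singleton, not_or]
    exact ⟨⟨(hu_ne1 0).symm, (hu_ne1 1).symm, hx₃1.symm⟩,
      ⟨fun he => hu01 (he ▸ IsConj.refl _), fun he => hu3 0 (he ▸ IsConj.refl _)⟩,
      fun he => hu3 1 (he ▸ IsConj.refl _)⟩
  -- sums over the sections
  let sec : G → (G → ℂ) → ℂ := fun x Φ => (Nat.card (Subgroup.centralizer ({x} : Set G)) : ℂ)⁻¹ *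
    ∑ᶠ s : Subgroup.centralizer ({x} : Set G),
      pRegularPart 2 (fun c : Subgroup.centralizer ({x} : Set G) => Φ (x * (c : G))) s
  have hsections : ∀ Φ : G → ℂ, IsClassFunction G Φ → (Nat.card G : ℂ)⁻¹ * ∑ g : G, Φ g =
      sec 1 Φ + sec (F.u 0 : G) Φ + sec (F.u 1 : G) Φ + sec x₃ Φ := by
    intro Φ hΦ
    rw [CfsgLib.BlockArith.sum_by_sections X hXpow hXu hΦ, Finset.mul_sum, hX, Finset.sum_insert hdist.1,
      Finset.sum_insert hdist.2.1, Finset.sum_insert hdist.2.2, Finset.sum_singleton]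
    simp only [← mul_assoc, inv_mul_cancel₀ (CfsgLib.Char.card_ne_zero' (G := G)), one_mul, sec]
    ring
  have hsec3 : ∀ (Φ : G → ℂ) (z : ℂ), (∀ s : Subgroup.centralizer ({x₃} : Set G), ¬ 2 ∣ orderOf s →
      Φ (x₃ * (s : G)) = z) → sec x₃ Φ = z / 16 := by
    intro Φ z hz
    simp only [sec, @finsum_eq_sum_of_fintype _ _ _ inst₃, pRegularPart_apply]
    rw [Finset.sum_congr rfl (g := fun s => z * if 2 ∣ orderOf s then (0 : ℂ) else 1) fun s _ => by
      split_ifs with hs
      · simp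
      · rw [hz s hs, mul_one], ← Finset.mul_sum]
    have h := hreg3
    field_simp
    linear_combination z * h
  have hsecH : ∀ (h : Fin 2) (Φ : G → ℂ) (χ ψ : IrrCharacter G), χ ∈ principalBlock M G →
      ψ ∈ principalBlock M G → (∀ s : Subgroup.centralizer ({(F.u h : G)} : Set G), ¬ 2 ∣ orderOf s →
        Φ ((F.u h : G) * (s : G)) = (χ : G → ℂ) ((F.u h : G) * (s : G)) *
          conj ((ψ : G → ℂ) ((F.u h : G) * (s : G)))) →
      sec (F.u h : G) Φ = (∑ i, ((T h).a i χ : ℂ) * ((T h).a i ψ : ℂ)) / 16 := by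
    intro h Φ χ ψ hχ hψ hΦ
    let instH := Fintype.ofFinite (Subgroup.centralizer ({(F.u h : G)} : Set G))
    have h1 := (T h).mu χ ψ hχ hψ
    simp only [sec, @finsum_eq_sum_of_fintype _ _ _ instH, pRegularPart_apply]
    rw [Finset.sum_congr rfl fun s _ => by
      rw [show (if 2 ∣ orderOf s then (0 : ℂ) else Φ ((F.u h : G) * (s : G))) =
        (if 2 ∣ orderOf s then 0 else (χ : G → ℂ) ((F.u h : G) * (s : G)) *
          conj ((ψ : G → ℂ) ((F.u h : G) * (s : G)))) by
        split_ifs with hs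
        · rfl
        · exact hΦ s hs]]
    have hne : (Nat.card (Subgroup.centralizer ({(F.u h : G)} : Set G)) : ℂ) ≠ 0 := CfsgLib.Char.card_ne_zero'
    field_simp
    linear_combination h1
  -- the regular norms
  let r : IrrCharacter G → ℝ := fun χ => ∑ s : G, if 2 ∣ orderOf s then 0 else Complex.normSq ((χ : G → ℂ) s)
  let S : IrrCharacter G → ℤ := fun χ => d χ ^ 2 + ∑ h, ∑ i, (T h).a i χ ^ 2
  have hsec1 : ∀ Φ : G → ℂ, sec 1 Φ = (Nat.card G : ℂ)⁻¹ * ∑ s : G, if 2 ∣ orderOf s then 0 else Φ s := by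
    intro Φ
    have htop : Subgroup.centralizer ({(1 : G)} : Set G) = ⊤ := by
      ext g; simp [Subgroup.mem_centralizer_singleton_iff]
    simp only [sec, finsum_eq_sum_of_fintype, pRegularPart_apply, one_mul]
    rw [show Nat.card (Subgroup.centralizer ({(1 : G)} : Set G)) = Nat.card G by rw [htop, Subgroup.card_top]]
    congr 1
    refine Finset.sum_nbij' (fun s => (s : G)) (fun g => ⟨g, by rw [htop]; exact Subgroup.mem_top g⟩)
      (fun _ _ => Finset.mem_univ _) (fun _ _ => Finset.mem_univ _) (fun _ _ => rfl) (fun _ _ => rfl) fun s _ => ?_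
    rw [Subgroup.orderOf_coe]
  have hnorm : ∀ χ ∈ principalBlock M G, 16 * r χ / (Nat.card G : ℝ) + (S χ : ℝ) = 16 := by
    intro χ hχ
    have hd : (d χ : ℂ) = (χ : G → ℂ) x₃ := by simp only [d, if_pos hχ, hv]
    have h0 : (Nat.card G : ℂ)⁻¹ * ∑ g : G, (χ : G → ℂ) g * conj ((χ : G → ℂ) g) = 1 :=
      classInner_irr_self χ.2
    have hcl : IsClassFunction G fun g => (χ : G → ℂ) g * conj ((χ : G → ℂ) g) := fun a b => by
      show (χ : G → ℂ) _ * conj ((χ : G → ℂ) _) = _
      rw [isClassFunction_of_isIrr χ.2 a b]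
    have h1' := hsec1 fun g => (χ : G → ℂ) g * conj ((χ : G → ℂ) g)
    rw [hsections _ hcl] at h0
    erw [h1'] at h0
    erw [hsecH 0 (fun g => (χ : G → ℂ) g * conj ((χ : G → ℂ) g)) χ χ hχ hχ (fun _ _ => rfl),
      hsecH 1 (fun g => (χ : G → ℂ) g * conj ((χ : G → ℂ) g)) χ χ hχ hχ (fun _ _ => rfl),
      hsec3 (fun g => (χ : G → ℂ) g * conj ((χ : G → ℂ) g)) ((d χ : ℂ) * (d χ : ℂ)) fun s hs => by
        rw [principal_section_const hM hx₃ hnc hχ hs, ← hd, map_intCast]] at h0
    have hr : (r χ : ℂ) = ∑ s : G, if 2 ∣ orderOf s then 0 else (χ : G → ℂ) s * conj ((χ : G → ℂ) s) := by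
      simp only [r, Complex.ofReal_sum]
      refine Finset.sum_congr rfl fun s _ => ?_
      split_ifs
      · simp
      · rw [Complex.mul_conj]
    rw [← hr] at h0
    apply Complex.ofReal_injective
    simp only [S]
    push_cast
    rw [Fin.sum_univ_two]
    simp only [pow_two] at *
    linear_combination 16 * h0
  have hrpos : ∀ χ : IrrCharacter G, 0 < r χ := fun χ =>
    Finset.sum_pos' (fun s _ => by split_ifs; exact le_rfl; exact Complex.normSq_nonneg _)
      ⟨1, Finset.mem_univ _, by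
        rw [if_neg (by simp)]
        exact Complex.normSq_pos.mpr (irr_one_ne_zero χ.2)⟩
  have hrow : ∀ χ ∈ principalBlock M G, S χ < 16 := fun χ hχ => by
    have h1 := hnorm χ hχ
    have h2 : 0 < 16 * r χ / (Nat.card G : ℝ) :=
      div_pos (by linarith [hrpos χ]) (by exact_mod_cast Nat.card_pos)
    have h3 : (S χ : ℝ) < ((16 : ℤ) : ℝ) := by push_cast; linarith
    exact_mod_cast h3
  -- the congruence
  have hcong : ∀ h χ, χ ∈ principalBlock M G →
      (4 : ℤ) ∣ d χ + (T h).a 0 χ + (T h).a 1 χ + (T h).a 2 χ := by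
    intro h χ hχ
    set W := F.V (1 - h)
    have hWn : W.Normal := ⟨fun n hn g => by rwa [comm_of_exp hexp g n, mul_inv_cancel_right]⟩
    have hQ : Nat.card ((P : Subgroup G) ⧸ W) = 4 := by
      have h1 := W.card_mul_index
      rw [show Nat.card W = 4 from F.card_V _, hP, Subgroup.index_eq_card] at h1
      omega
    let θ : ↥(P : Subgroup G) → ℂ := fun w => if w ∈ W then 0 else 4
    have hθgen : IsGeneralizedCharacter (P : Subgroup G) θ := by
      choose D hD using fun η : IrrCharacter ((P : Subgroup G) ⧸ W) => exists_degree (isCharacter_of_isIrr η.2)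
      have he : θ = (((4 : ℤ) : ℂ) • fun _ => (1 : ℂ)) - ∑ η : IrrCharacter ((P : Subgroup G) ⧸ W),
          (((D η : ℤ)) : ℂ) • ((η : _ → ℂ) ∘ QuotientGroup.mk' W) := by
        funext w
        simp only [Pi.sub_apply, Finset.sum_apply, Pi.smul_apply, smul_eq_mul, Function.comp_apply,
          QuotientGroup.mk'_apply, Int.cast_natCast, ← hD, mul_one]
        rw [sum_degree_mul_apply, hQ]
        by_cases hw : w ∈ W
        · rw [if_pos ((QuotientGroup.eq_one_iff w).mpr hw)]
          simp [θ, hw]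
        · rw [if_neg fun he => hw ((QuotientGroup.eq_one_iff w).mp he)]
          simp [θ, hw]
      rw [he]
      exact isGen_sub (isGen_intCast_smul (isGen_of_irr (CfsgLib.Char.irrOne : IrrCharacter (P : Subgroup G)).2) 4)
        (isGen_sum _ fun η _ => isGen_intCast_smul (isGen_comp (isGen_of_irr η.2) _) _)
    have hθst : Stable P θ := fun γ hγ w => by
      have hiff : γ w ∈ W ↔ w ∈ W := ⟨fun hm => by
        have h1 := F.inv _ γ⁻¹ (inv_mem hγ) _ hm
        simpa using h1, fun hm => F.inv _ γ hγ w hm⟩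
      simp only [θ, hiff]
    obtain ⟨z, hz⟩ := classInner_gen_int (isGen_mul (isGen_sext hab hθst hθgen) (isGen_of_irr χ.2))
      (isGen_of_irr (CfsgLib.Char.irrOne : IrrCharacter G).2)
    have hθreg : ∀ g : G, ¬ 2 ∣ orderOf g → sext P θ g = 0 := by
      intro g hg
      rw [sext_eq hab hθst (w := 1) (by
        rw [CfsgLib.Star.ppart_eq ⟨g, one_mul g, Commute.one_left g, ⟨0, by simp⟩, hg⟩, Subgroup.coe_one])]
      simp [θ]
    have hθsec : ∀ (w : (P : Subgroup G)) (s : Subgroup.centralizer ({(w : G)} : Set G)), ¬ 2 ∣ orderOf s →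
        sext P θ ((w : G) * (s : G)) = θ w := fun w s hs => sext_section hab hθst w s hs
    have hcl : IsClassFunction G (sext P θ * (χ : G → ℂ)) := fun a b => by
      show sext P θ _ * (χ : G → ℂ) _ = _
      rw [isClassFunction_sext hab hθst a b, isClassFunction_of_isIrr χ.2 a b]
      rfl
    rw [show ((CfsgLib.Char.irrOne : IrrCharacter G) : G → ℂ) = fun _ => 1 from rfl, classInner_one_right,
      hsections _ hcl, hsec1] at hz
    have hz1 : (∑ s : G, if 2 ∣ orderOf s then (0 : ℂ) else (sext P θ * (χ : G → ℂ)) s) = 0 := by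
      refine Finset.sum_eq_zero fun s _ => ?_
      split_ifs with hs
      · rfl
      · rw [Pi.mul_apply, hθreg s hs, zero_mul]
    have hzero : sec (F.u (1 - h) : G) (sext P θ * (χ : G → ℂ)) = 0 := by
      refine mul_eq_zero_of_right _ (finsum_eq_zero_of_forall_eq_zero fun s => ?_)
      rw [pRegularPart_apply]
      split_ifs with hs
      · rfl
      · rw [Pi.mul_apply, hθsec _ s hs]
        simp [θ, W, F.u_mem]
    have hfour : sec (F.u h : G) (sext P θ * (χ : G → ℂ)) =
        4 * ((∑ i, ((T h).a i χ : ℂ)) / 16) := by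
      let instH := Fintype.ofFinite (Subgroup.centralizer ({(F.u h : G)} : Set G))
      have h1 := hsecH h (fun g => (χ : G → ℂ) g * conj (((CfsgLib.Char.irrOne : IrrCharacter G) : G → ℂ) g)) χ
        CfsgLib.Char.irrOne hχ irrOne_mem_principalBlock (fun _ _ => rfl)
      simp only [(T h).one, Int.cast_one, mul_one] at h1
      rw [← h1]
      simp only [sec, @finsum_eq_sum_of_fintype _ _ _ instH, pRegularPart_apply]
      rw [mul_left_comm (4 : ℂ)]
      congr 1
      rw [Finset.mul_sum]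
      refine Finset.sum_congr rfl fun s _ => ?_
      split_ifs with hs
      · simp
      · rw [Pi.mul_apply, hθsec _ s hs]
        simp [θ, W, F.u_notMem h, CfsgLib.Char.irrOne]
    have h3 : sec x₃ (sext P θ * (χ : G → ℂ)) = 4 * (d χ : ℂ) / 16 := by
      refine hsec3 _ _ fun s hs => ?_
      rw [Pi.mul_apply, hθsec w₃ s hs, principal_section_const hM hx₃ hnc hχ hs]
      simp [θ, W, hw₃, F.prod_notMem, d, hχ, hv]
    refine ⟨z, Int.cast_injective (α := ℂ) ?_⟩
    rw [hz1, mul_zero, zero_add, h3] at hz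
    push_cast
    fin_cases h
    · simp only [Fin.sum_univ_three] at hfour
      rw [show sec (F.u 1 : G) (sext P θ * (χ : G → ℂ)) = 0 from hzero,
        show sec (F.u 0 : G) (sext P θ * (χ : G → ℂ)) = _ from hfour] at hz
      linear_combination 4 * hz
    · simp only [Fin.sum_univ_three] at hfour
      rw [show sec (F.u 0 : G) (sext P θ * (χ : G → ℂ)) = 0 from hzero,
        show sec (F.u 1 : G) (sext P θ * (χ : G → ℂ)) = _ from hfour] at hz
      linear_combination 4 * hz
  -- assemble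
  let _ := Fintype.ofFinite (principalBlock M G)
  have hsub : ∀ f : IrrCharacter G → ℤ, (∀ χ, χ ∉ principalBlock M G → f χ = 0) →
      ∑ χ : principalBlock M G, f χ.1 = ∑ χ : IrrCharacter G, f χ := fun f hf => by
    rw [← Finset.sum_subset (Finset.subset_univ (principalBlock M G).toFinset)
      fun χ _ hχ => hf χ (by simpa using hχ)]
    exact (Finset.sum_subtype _ (fun χ => Set.mem_toFinset) f).symm
  have hd0 : ∀ χ, χ ∉ principalBlock M G → d χ = 0 := fun χ hχ => by simp [d, hχ]
  have hdd : ∑ χ : IrrCharacter G, d χ * d χ = 16 := by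
    apply Int.cast_injective (α := ℂ)
    push_cast
    have h1 : ∀ χ, (d χ : ℂ) * (d χ : ℂ) = 16 / N₃ * (16 / N₃) *
        (regVal x₃ (fun _ => 1) χ * conj (regVal x₃ (fun _ => 1) χ)) := fun χ => by
      have h2 : conj (d χ : ℂ) = (d χ : ℂ) := map_intCast _ _
      rw [hdC] at h2 ⊢
      conv_lhs => arg 2; rw [← h2]
      simp only [map_mul, map_div₀, map_ofNat, N₃, Complex.conj_natCast]
      ring
    simp only [h1, ← Finset.mul_sum, regVal]
    rw [sum_products_self hx₃ (fun _ => (1 : ℂ)) (fun _ => 1) fun _ _ => rfl]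
    simp only [map_one, mul_one]
    have h := hreg3
    show 16 / N₃ * (16 / N₃) * (N₃ * _) = _
    field_simp
    linear_combination h
  have hdu : ∀ h i, ∑ χ : IrrCharacter G, d χ * (T h).a i χ = 0 := fun h i => by
    apply Int.cast_injective (α := ℂ)
    push_cast
    have h1 := (T h).cross i x₃ hx₃ (hu3 h) (fun _ => 1)
    have h2 : ∀ χ, (d χ : ℂ) * ((T h).a i χ : ℂ) = 16 / N₃ * (((T h).a i χ : ℂ) * conj (regVal x₃ (fun _ => 1) χ)) := by
      intro χ
      have h3 : conj (d χ : ℂ) = (d χ : ℂ) := map_intCast _ _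
      rw [hdC, map_mul, map_div₀, map_ofNat, Complex.conj_natCast] at h3
      rw [hdC, ← h3]
      ring
    simp only [h2, ← Finset.mul_sum, h1, mul_zero]
  have huu : ∀ h i h' j, ∑ χ : IrrCharacter G, (T h).a i χ * (T h').a j χ = if h = h' ∧ i = j then 16 else 0 := by
    intro h i h' j
    by_cases hh : h = h'
    · subst hh
      simp [(T h).orth]
    · rw [if_neg (fun he => hh he.1)]
      apply Int.cast_injective (α := ℂ)
      push_cast
      let _ := Fintype.ofFinite (Subgroup.centralizer ({(F.u h' : G)} : Set G))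
      obtain ⟨b, hb⟩ := (T h').expr j
      have hcj : ¬ IsConj ((F.u h : G)) ((F.u h' : G)) := by
        fin_cases h <;> fin_cases h' <;> first | exact absurd rfl hh | exact hu01 | exact fun hc => hu01 hc.symm
      have h1 := (T h).cross i (F.u h' : G) (exists_pow_two hexp _) hcj b
      have h2 : ∀ χ, ((T h).a i χ : ℂ) * ((T h').a j χ : ℂ) =
          4 / (Nat.card (Subgroup.centralizer ({(F.u h' : G)} : Set G)) : ℂ) *
            (((T h).a i χ : ℂ) * conj (regVal (F.u h' : G) b χ)) := fun χ => by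
        have h3 : conj ((T h').a j χ : ℂ) = ((T h').a j χ : ℂ) := map_intCast _ _
        rw [← h3, hb χ, map_mul, map_div₀, map_ofNat, Complex.conj_natCast]
        ring
      simp only [h2, ← Finset.mul_sum, h1, mul_zero]
  choose D hD using fun χ : IrrCharacter G => exists_degree_pos χ.2
  have hdD : ∑ χ : IrrCharacter G, d χ * (D χ : ℤ) = 0 := by
    apply Int.cast_injective (α := ℂ)
    push_cast
    simp only [← (hD _).2, hdC, mul_assoc, ← Finset.mul_sum]
    rw [sum_degree_regVal hx₃ hx₃1, mul_zero]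
  have huD : ∀ h i, ∑ χ : IrrCharacter G, (T h).a i χ * (D χ : ℤ) = 0 := fun h i => by
    apply Int.cast_injective (α := ℂ)
    push_cast
    simp only [← (hD _).2]
    exact (T h).deg i
  have hdne : ∀ χ ∈ principalBlock M G, d χ ≠ 0 := by
    intro χ hχ h0
    refine ne_zero_of_odd_class hM hχ (g := x₃) (fun h2 => P.not_dvd_index (h2.trans (Subgroup.index_dvd_of_le hle))) ?_
    rw [hv]
    simp only [d, if_pos hχ] at h0
    rw [h0, Int.cast_zero]
  let Dt : Data (principalBlock M G) :=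
    { d := fun χ => d χ.1
      U := fun h i χ => (T h).a i χ.1
      D := fun χ => (D χ.1 : ℤ)
      o := ⟨CfsgLib.Char.irrOne, irrOne_mem_principalBlock⟩
      dd := by rw [hsub (fun χ => d χ * d χ) fun χ hχ => by simp [hd0 χ hχ]]; exact hdd
      du := fun h i => by rw [hsub (fun χ => d χ * (T h).a i χ) fun χ hχ => by simp [hd0 χ hχ]]; exact hdu h i
      uu := fun h i h' j => by
        rw [hsub (fun χ => (T h).a i χ * (T h').a j χ) fun χ hχ => by simp [(T h).zero i χ hχ]]; exact huu h i h' j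
      dD := by rw [hsub (fun χ => d χ * (D χ : ℤ)) fun χ hχ => by simp [hd0 χ hχ]]; exact hdD
      uD := fun h i => by
        rw [hsub (fun χ => (T h).a i χ * (D χ : ℤ)) fun χ hχ => by simp [(T h).zero i χ hχ]]; exact huD h i
      d_ne := fun χ => hdne χ.1 χ.2
      par := fun h i χ => by
        have h1 := (T h).par i χ.1
        have h2 := (T h).par 1 χ.1
        have h3 := (T h).par 2 χ.1
        have h4 := hcong h χ.1 χ.2
        omega
      cong := fun h χ => hcong h χ.1 χ.2
      row := fun χ => hrow χ.1 χ.2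
      d_o := by
        have h1 := hv (CfsgLib.Char.irrOne : IrrCharacter G)
        simp only [d, if_pos irrOne_mem_principalBlock]
        have h2 : (1 : ℂ) = (v (CfsgLib.Char.irrOne : IrrCharacter G) : ℂ) := h1
        exact_mod_cast h2.symm
      u_o := fun h i => (T h).one i
      D_pos := fun χ => by exact_mod_cast (hD χ.1).1
      D_o := by
        have h1 : (1 : ℂ) = (D (CfsgLib.Char.irrOne : IrrCharacter G) : ℂ) :=
          (hD (CfsgLib.Char.irrOne : IrrCharacter G)).2
        show ((D (CfsgLib.Char.irrOne : IrrCharacter G) : ℕ) : ℤ) = 1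
        exact_mod_cast h1.symm }
  have hk := Dt.card_eq
  refine ⟨by rw [Nat.card_eq_fintype_card, hk], ?_⟩
  -- the rank
  have hl := CfsgLib.BlockArith.card_mul_blockRank hM (isPBlock_principalBlock (M := M) (G := G))
  have hr : ∀ χ : IrrCharacter G, (r χ : ℂ) = ∑ s : G, if 2 ∣ orderOf s then 0 else (χ : G → ℂ) s * conj ((χ : G → ℂ) s) := by
    intro χ
    simp only [r, Complex.ofReal_sum]
    refine Finset.sum_congr rfl fun s _ => ?_
    split_ifs
    · simp
    · rw [Complex.mul_conj]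
  simp only [← hr] at hl
  have hSsum : ∑ χ : principalBlock M G, S χ.1 = 112 := by
    rw [hsub S fun χ hχ => by simp [S, hd0 χ hχ, (T _).zero _ χ hχ]]
    simp only [S, pow_two, Finset.sum_add_distrib]
    rw [hdd, Finset.sum_comm, Finset.sum_congr rfl fun h _ => Finset.sum_comm]
    simp [huu]
  have hl' : (Nat.card G : ℝ) * (blockRank 2 (principalBlock M G) : ℝ) =
      ∑ χ : principalBlock M G, r χ.1 := by
    apply Complex.ofReal_injective
    push_cast
    rw [hl, ← Finset.sum_filter]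
    exact Finset.sum_subtype _ (fun χ => by simp) (fun χ => (r χ : ℂ))
  have hsum16 : ∑ χ : principalBlock M G, (16 * r χ.1 / (Nat.card G : ℝ) + (S χ.1 : ℝ)) = 256 := by
    rw [Finset.sum_congr rfl fun χ _ => hnorm χ.1 χ.2, Finset.sum_const, Finset.card_univ, hk]
    norm_num
  rw [Finset.sum_add_distrib, ← Finset.sum_div, ← Finset.mul_sum, ← hl', ← Int.cast_sum, hSsum] at hsum16
  have hG : (Nat.card G : ℝ) ≠ 0 := by exact_mod_cast Nat.card_pos.ne'
  rw [mul_left_comm, mul_div_assoc, mul_div_assoc, mul_comm, mul_assoc] at hsum16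
  have h9 : (blockRank 2 (principalBlock M G) : ℝ) = ((9 : ℕ) : ℝ) := by
    push_cast at hsum16 ⊢
    field_simp at hsum16
    linarith
  exact_mod_cast h9

include hM hP hexp in
/-- **The theorem.** -/
theorem counts (he : (Subgroup.centralizer ((P : Subgroup G) : Set G)).relIndex
      (Subgroup.normalizer ((P : Subgroup G) : Set G)) = 9) :
    Nat.card (principalBlock M G) = 16 ∧ blockRank 2 (principalBlock M G) = 9 := by
  obtain ⟨F⟩ := exists_frame hP (autN P) (card_autN he)
  exact counts_of_frame hM hP hexp F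

end last

end CfsgLib.ProductFour
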