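import Mathlib.LinearAlgebra.Matrix.NonsingularInverse
import Mathlib.Algebra.Order.BigOperators.Group.Finset
import Mathlib.Algebra.BigOperators.Field
import Mathlib.Tactic

/-!
# Seven orthogonal integral vectors of norm sixteen

The combinatorial core of the computation of the principal 2-block for an elementary abelian Sylow
2-subgroup of order 16 with inertial quotient of order 9: `Data.card_eq`.
-/

set_option autoImplicit false

namespace CfsgLib.ProductFour

variable {ι : Type*}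

/-- Squares of odd integers are 1 or at least 9. -/
theorem odd_sq_cases {x : ℤ} (hx : ¬ 2 ∣ x) : x ^ 2 = 1 ∨ (x ^ 2 = 9 ∨ 25 ≤ x ^ 2) := by
  rcases lt_trichotomy x 0 with h | h | h
  · rcases (show x = -1 ∨ x = -3 ∨ x ≤ -5 by omega) with rfl | rfl | h5
    · norm_num
    · norm_num
    · right; right; nlinarith
  · omega
  · rcases (show x = 1 ∨ x = 3 ∨ 5 ≤ x by omega) with rfl | rfl | h5
    · norm_num
    · norm_num
    · right; right; nlinarith

/-- Nonzero even squares are at least four. -/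
theorem even_sq_cases {x : ℤ} (hx : 2 ∣ x) : x ^ 2 = 0 ∨ x ^ 2 = 4 ∨ 16 ≤ x ^ 2 := by
  obtain ⟨y, rfl⟩ := hx
  rcases (show y = 0 ∨ y = 1 ∨ y = -1 ∨ 2 ≤ y ∨ y ≤ -2 by omega) with rfl | rfl | rfl | h | h
  · norm_num
  · norm_num
  · norm_num
  · right; right; nlinarith
  · right; right; nlinarith

/-- A sum of odd squares exceeds its length by a nonnegative multiple of eight. -/
theorem sum_odd_sq (s : Finset ι) (v : ι → ℤ) (h : ∀ i ∈ s, ¬ 2 ∣ v i) :
    ∃ t : ℕ, ∑ i ∈ s, v i ^ 2 = (s.card : ℤ) + 8 * t := by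
  classical
  induction s using Finset.induction with
  | empty => exact ⟨0, by simp⟩
  | insert a s ha ih =>
    obtain ⟨t, ht⟩ := ih fun i hi => h i (Finset.mem_insert_of_mem hi)
    have h8 : (8 : ℤ) ∣ v a ^ 2 - 1 := by
      obtain ⟨y, hy⟩ : ∃ y, v a = 2 * y + 1 := ⟨v a / 2, by
        have := h a (Finset.mem_insert_self a s)
        omega⟩
      obtain ⟨z, hz⟩ := Int.even_mul_succ_self y
      exact ⟨z, by rw [hy]; linear_combination 4 * hz⟩
    obtain ⟨z, hz⟩ := h8
    have hpos : 0 < v a ^ 2 := pow_two_pos_of_ne_zero fun h0 => h a (Finset.mem_insert_self a s) ⟨0, by simp [h0]⟩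
    refine ⟨t + z.toNat, ?_⟩
    rw [Finset.sum_insert ha, Finset.card_insert_of_notMem ha, ht]
    push_cast
    rw [Int.toNat_of_nonneg (by omega)]
    omega

/-- Odd entries with square sum equal to their number are signs. -/
theorem all_one_of_sum (s : Finset ι) (v : ι → ℤ) (h : ∀ i ∈ s, ¬ 2 ∣ v i)
    (hs : ∑ i ∈ s, v i ^ 2 = (s.card : ℤ)) : ∀ i ∈ s, v i ^ 2 = 1 := by
  have hge : ∀ i ∈ s, (1 : ℤ) ≤ v i ^ 2 := fun i hi => by
    rcases odd_sq_cases (h i hi) with h1 | h1 | h1 <;> omega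
  intro i hi
  refine ((Finset.sum_eq_sum_iff_of_le hge).mp ?_ i hi).symm
  rw [Finset.sum_const, nsmul_eq_mul, mul_one, hs]

/-- One entry of absolute value three. -/
theorem one_three_of_sum [DecidableEq ι] (s : Finset ι) (v : ι → ℤ) (h : ∀ i ∈ s, ¬ 2 ∣ v i)
    (hs : ∑ i ∈ s, v i ^ 2 = (s.card : ℤ) + 8) :
    ∃ i ∈ s, v i ^ 2 = 9 ∧ ∀ j ∈ s, j ≠ i → v j ^ 2 = 1 := by
  obtain ⟨i, hi, hne⟩ : ∃ i ∈ s, v i ^ 2 ≠ 1 := by
    by_contra hc
    push Not at hc
    rw [Finset.sum_congr rfl hc] at hs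
    simp at hs
  have hsplit := Finset.add_sum_erase s (fun j => v j ^ 2) hi
  obtain ⟨t, ht⟩ := sum_odd_sq (s.erase i) v fun j hj => h j (Finset.mem_of_mem_erase hj)
  have hc : (s.erase i).card + 1 = s.card := Finset.card_erase_add_one hi
  have h9 : v i ^ 2 = 9 ∧ t = 0 := by
    rcases odd_sq_cases (h i hi) with h1 | h1 | h1 <;> omega
  refine ⟨i, hi, h9.1, fun j hj hji => ?_⟩
  refine all_one_of_sum (s.erase i) v (fun j hj => h j (Finset.mem_of_mem_erase hj)) ?_ j
    (Finset.mem_erase.mpr ⟨hji, hj⟩)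
  rw [ht, h9.2]; simp

/-- Completeness: square matrix with orthogonal rows. -/
theorem sum_sq_div_eq_one {κ : Type*} [Fintype ι] [Fintype κ] [DecidableEq κ] (V : κ → ι → ℚ) (n : κ → ℚ)
    (hn : ∀ a, n a ≠ 0) (horth : ∀ a b, ∑ i, V a i * V b i = if a = b then n a else 0)
    (hcard : Fintype.card κ = Fintype.card ι) (o : ι) : ∑ a, V a o ^ 2 / n a = 1 := by
  classical
  let e := Fintype.equivOfCardEq hcard
  let A : Matrix κ κ ℚ := fun a j => V a (e j) / n a
  let B : Matrix κ κ ℚ := fun j a => V a (e j)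
  have hAB : A * B = 1 := by
    ext a b
    rw [Matrix.mul_apply, Matrix.one_apply]
    simp only [A, B, div_mul_eq_mul_div]
    rw [← Finset.sum_div, Equiv.sum_comp e (fun i => V a i * V b i), horth]
    split_ifs with h
    · exact div_self (hn a)
    · simp
  have hBA := congrFun (congrFun ((mul_eq_one_comm (a := A) (b := B)).mp hAB) (e.symm o)) (e.symm o)
  rw [Matrix.one_apply_eq, Matrix.mul_apply] at hBA
  refine (Finset.sum_congr rfl fun a _ => ?_).trans hBA
  simp only [A, B, Equiv.apply_symm_apply]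
  ring

/-- The sign pattern: `a` is constant. -/
theorem sum_signs [DecidableEq ι] (s : Finset ι) (hs : s.card = 8) (a b c : ι → ℤ)
    (ha : ∀ k ∈ s, a k = 1 ∨ a k = -1) (ha8 : 8 ∣ ∑ k ∈ s, a k)
    {i j : ι} (hi : i ∈ s) (hj : j ∈ s)
    (hbi : b i ^ 2 = 9) (hb : ∀ k ∈ s, k ≠ i → b k ^ 2 = 1)
    (hcj : c j ^ 2 = 9) (hc : ∀ k ∈ s, k ≠ j → c k ^ 2 = 1)
    (hcong : ∀ k ∈ s, (4 : ℤ) ∣ 1 + a k + b k + c k)
    (hb0 : ∑ k ∈ s, b k = 0) (hc0 : ∑ k ∈ s, c k = 0) (hab : ∑ k ∈ s, a k * b k = 0)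
    (hac : ∑ k ∈ s, a k * c k = 0) (hbc : ∑ k ∈ s, b k * c k = 0) : (∑ k ∈ s, a k) = 8 ∨ (∑ k ∈ s, a k) = -8 := by
  let σ : ι → ℤ := fun k => if b k % 4 = 1 then 1 else -1
  have hσ : ∀ k, σ k = 1 ∨ σ k = -1 := fun k => by simp only [σ]; split_ifs <;> simp
  let wi : ι → ℤ := fun k => if k = i then -3 else 1
  let wj : ι → ℤ := fun k => if k = j then -3 else 1
  have habs : ∀ (x w : ℤ), (w = 1 ∨ w = -3) → x ^ 2 = w ^ 2 → x = w ∨ x = -w := fun x w _ h =>
    sq_eq_sq_iff_eq_or_eq_neg.mp h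
  have hbw : ∀ k ∈ s, b k = σ k * wi k := by
    intro k hk
    have hw : wi k = 1 ∨ wi k = -3 := by simp only [wi]; split_ifs <;> simp
    have h2 : b k ^ 2 = wi k ^ 2 := by
      simp only [wi]
      split_ifs with h
      · subst h; rw [hbi]; norm_num
      · rw [hb k hk h]; norm_num
    simp only [σ]
    rcases habs _ _ hw h2 with h | h <;> rcases hw with w | w <;> rw [h, w] <;> norm_num
  have hcw : ∀ k ∈ s, c k = a k * σ k * wj k := by
    intro k hk
    have hw : wj k = 1 ∨ wj k = -3 := by simp only [wj]; split_ifs <;> simp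
    have h2 : c k ^ 2 = wj k ^ 2 := by
      simp only [wj]
      split_ifs with h
      · subst h; rw [hcj]; norm_num
      · rw [hc k hk h]; norm_num
    have hwi : wi k = 1 ∨ wi k = -3 := by simp only [wi]; split_ifs <;> simp
    have hb' := hbw k hk
    have hd := hcong k hk
    rcases habs _ _ hw h2 with h | h <;> rcases hw with w | w <;> rcases ha k hk with h1 | h1 <;>
      rcases hσ k with h3 | h3 <;> rcases hwi with h4 | h4 <;>
      simp only [h1, h, w, hb', h3, h4] at hd ⊢ <;> revert hd <;> norm_num <;> omega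
  have hsum : ∀ (f : ι → ℤ) (q : ι), q ∈ s →
      ∑ k ∈ s, f k * (if k = q then -3 else 1) = (∑ k ∈ s, f k) - 4 * f q := by
    intro f q hq
    rw [Finset.sum_congr rfl (g := fun k => f k + (if k = q then -4 * f k else 0)) fun k _ => by
      split_ifs <;> ring, Finset.sum_add_distrib, Finset.sum_ite_eq', if_pos hq]
    ring
  have hσσ : ∀ k, σ k * σ k = 1 := fun k => by rcases hσ k with h | h <;> rw [h] <;> norm_num
  have haa : ∀ k ∈ s, a k * a k = 1 := fun k hk => by rcases ha k hk with h | h <;> rw [h] <;> norm_num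
  have e1 : (∑ k ∈ s, σ k) - 4 * σ i = 0 := by
    rw [← hsum σ i hi, ← hb0]; exact Finset.sum_congr rfl fun k hk => (hbw k hk).symm
  have e2 : (∑ k ∈ s, a k * σ k) - 4 * (a i * σ i) = 0 := by
    rw [← hsum (fun k => a k * σ k) i hi, ← hab]
    exact Finset.sum_congr rfl fun k hk => by rw [hbw k hk]; simp only [wi]; ring
  have e3 : (∑ k ∈ s, a k * σ k) - 4 * (a j * σ j) = 0 := by
    rw [← hsum (fun k => a k * σ k) j hj, ← hc0]
    exact Finset.sum_congr rfl fun k hk => (hcw k hk).symm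
  have e4 : (∑ k ∈ s, σ k) - 4 * σ j = 0 := by
    rw [← hsum σ j hj, ← hac]
    refine Finset.sum_congr rfl fun k hk => ?_
    rw [hcw k hk]
    simp only [wj]
    linear_combination (σ k * if k = j then -3 else 1) * (haa k hk).symm
  have e5 : (∑ k ∈ s, a k) - 4 * a i - 4 * (a j * if j = i then -3 else 1) = 0 := by
    rw [← hsum a i hi, ← hsum (fun k => a k * if k = i then -3 else 1) j hj, ← hbc]
    refine Finset.sum_congr rfl fun k hk => ?_
    rw [hbw k hk, hcw k hk]
    simp only [wi, wj]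
    linear_combination (a k * (if k = i then -3 else 1) * if k = j then -3 else 1) * (hσσ k).symm
  obtain ⟨z, hz⟩ := ha8
  by_cases hij : j = i
  · subst hij
    rw [if_pos rfl] at e5
    have hge : ∀ k ∈ s.erase j, -1 ≤ a k ∧ a k ≤ 1 := fun k hk => by
      rcases ha k (Finset.mem_of_mem_erase hk) with h | h <;> omega
    have hl := Finset.sum_le_sum (f := a) (g := fun _ => (1 : ℤ)) fun k hk => (hge k hk).2
    have hu := Finset.sum_le_sum (f := fun _ => (-1 : ℤ)) (g := a) fun k hk => (hge k hk).1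
    have hsplit := Finset.add_sum_erase s a hi
    simp only [Finset.sum_const, Finset.card_erase_of_mem hi, hs, nsmul_eq_mul] at hl hu
    rcases ha j hi with h | h <;> omega
  · rw [if_neg hij] at e5
    rcases ha i hi with h | h <;> rcases ha j hj with h' | h' <;> rcases hσ i with g | g <;>
      rcases hσ j with g' | g' <;> rw [h, h'] at e5 <;> rw [h, g] at e2 <;> rw [h', g'] at e3 <;>
      rw [g] at e1 <;> rw [g'] at e4 <;> omega

/-- The vectors attached to the three sections, with the degrees. -/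
structure Data (ι : Type*) [Fintype ι] where
  d : ι → ℤ
  U : Fin 2 → Fin 3 → ι → ℤ
  D : ι → ℤ
  o : ι
  dd : ∑ i, d i * d i = 16
  du : ∀ h a, ∑ i, d i * U h a i = 0
  uu : ∀ h a h' b, ∑ i, U h a i * U h' b i = if h = h' ∧ a = b then 16 else 0
  dD : ∑ i, d i * D i = 0
  uD : ∀ h a, ∑ i, U h a i * D i = 0
  d_ne : ∀ i, d i ≠ 0
  par : ∀ h a i, 2 ∣ U h a i - d i
  cong : ∀ h i, 4 ∣ d i + U h 0 i + U h 1 i + U h 2 i
  row : ∀ i, d i ^ 2 + ∑ h, ∑ a, U h a i ^ 2 < 16
  d_o : d o = 1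
  u_o : ∀ h a, U h a o = 1
  D_pos : ∀ i, 1 ≤ D i
  D_o : D o = 1

namespace Data

variable [Fintype ι] (T : Data ι)

include T

theorem eight_le_card : 8 ≤ Fintype.card ι := by
  classical
  have htot : ∑ i, (T.d i ^ 2 + ∑ h, ∑ a, T.U h a i ^ 2) = 112 := by
    rw [Finset.sum_add_distrib, Finset.sum_comm]
    simp only [pow_two, T.dd]
    rw [Finset.sum_congr rfl fun h _ => Finset.sum_comm (f := fun i a => T.U h a i * T.U h a i)]
    simp [T.uu]
  have ho : T.d T.o ^ 2 + ∑ h, ∑ a, T.U h a T.o ^ 2 = 7 := by simp [T.d_o, T.u_o]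
  have h := Finset.sum_le_sum (s := Finset.univ.erase T.o)
    (f := fun i => T.d i ^ 2 + ∑ h, ∑ a, T.U h a i ^ 2) (g := fun _ => (15 : ℤ))
    fun i _ => by have := T.row i; omega
  have hsplit := Finset.add_sum_erase Finset.univ (fun i => T.d i ^ 2 + ∑ h, ∑ a, T.U h a i ^ 2)
    (Finset.mem_univ T.o)
  simp only [Finset.sum_const, nsmul_eq_mul, Finset.card_erase_of_mem (Finset.mem_univ T.o),
    Finset.card_univ] at h
  omega

theorem card_ne_eight : Fintype.card ι ≠ 8 := by
  classical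
  intro h8
  let V : Option (Option (Fin 2 × Fin 3)) → ι → ℚ := fun a i =>
    match a with
    | none => (T.D i : ℚ)
    | some none => (T.d i : ℚ)
    | some (some x) => (T.U x.1 x.2 i : ℚ)
  let S : ℚ := ∑ i, (T.D i : ℚ) * (T.D i : ℚ)
  have hS : 8 ≤ S := by
    have h : ∀ i, (1 : ℚ) ≤ (T.D i : ℚ) * T.D i := fun i => by
      have : (1 : ℚ) ≤ T.D i := by exact_mod_cast T.D_pos i
      nlinarith
    have := Finset.sum_le_sum (s := Finset.univ) fun i (_ : i ∈ Finset.univ) => h i
    simpa [h8, S] using this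
  let n : Option (Option (Fin 2 × Fin 3)) → ℚ := fun a => match a with
    | none => S
    | some _ => 16
  have hn : ∀ a, n a ≠ 0 := by
    rintro (_ | a)
    · exact ne_of_gt (by show (0 : ℚ) < S; linarith)
    · norm_num [n]
  have horth : ∀ a b, ∑ i, V a i * V b i = if a = b then n a else 0 := by
    have h1 : ∑ i, (T.d i : ℚ) * (T.d i : ℚ) = 16 := by exact_mod_cast T.dd
    have h2 : ∀ h a, ∑ i, (T.d i : ℚ) * (T.U h a i : ℚ) = 0 := fun h a => by exact_mod_cast T.du h a
    have h3 : ∀ h a h' b, ∑ i, (T.U h a i : ℚ) * (T.U h' b i : ℚ) = if h = h' ∧ a = b then 16 else 0 :=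
      fun h a h' b => by
        have := congrArg (fun z : ℤ => (z : ℚ)) (T.uu h a h' b)
        push_cast at this
        exact this
    have h4 : ∑ i, (T.d i : ℚ) * (T.D i : ℚ) = 0 := by exact_mod_cast T.dD
    have h5 : ∀ h a, ∑ i, (T.U h a i : ℚ) * (T.D i : ℚ) = 0 := fun h a => by exact_mod_cast T.uD h a
    rintro (_ | _ | ⟨h, a⟩) (_ | _ | ⟨h', b⟩)
    · simp [V, n, S]
    · simpa [V, mul_comm] using h4
    · simpa [V, mul_comm] using h5 h' b
    · simpa [V] using h4
    · simpa [V, n] using h1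
    · simpa [V] using h2 h' b
    · simpa [V] using h5 h a
    · simpa [V, mul_comm] using h2 h a
    · simpa [V, n, Prod.ext_iff] using h3 h a h' b
  have := sum_sq_div_eq_one V n hn horth (by simp [h8]) T.o
  simp [Fintype.sum_option, V, n, T.D_o, T.d_o, T.u_o, Fintype.card_prod, Finset.sum_const] at this
  have h6 : 1 / S ≤ 1 / 8 := one_div_le_one_div_of_le (by norm_num) hS
  rw [one_div] at h6
  linarith

open Classical in
theorem card_eq : Fintype.card ι = 16 := by
  set O := Finset.univ.filter fun i : ι => ¬ 2 ∣ T.d i with hO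
  set E := Finset.univ.filter fun i : ι => 2 ∣ T.d i with hE
  have hdisj : O.card + E.card = Fintype.card ι := by
    rw [hO, hE, add_comm, Finset.card_filter_add_card_filter_not, Finset.card_univ]
  have hsplit : ∀ f : ι → ℤ, ∑ i, f i = ∑ i ∈ O, f i + ∑ i ∈ E, f i := fun f => by
    rw [hO, hE, add_comm, Finset.sum_filter_add_sum_filter_not]
  have hparO : ∀ h a, ∀ i ∈ O, ¬ 2 ∣ T.U h a i := fun h a i hi => by
    have := T.par h a i
    have := (Finset.mem_filter.mp hi).2
    omega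
  have hparE : ∀ h a, ∀ i ∈ E, 2 ∣ T.U h a i := fun h a i hi => by
    have := T.par h a i
    have := (Finset.mem_filter.mp hi).2
    omega
  have hdO : ∀ i ∈ O, ¬ 2 ∣ T.d i := fun i hi => (Finset.mem_filter.mp hi).2
  have hdE : ∀ i ∈ E, T.d i ^ 2 = 4 := fun i hi => by
    have hpos : 0 < T.d i ^ 2 := pow_two_pos_of_ne_zero (T.d_ne i)
    have hrow := T.row i
    have : 0 ≤ ∑ h, ∑ a, T.U h a i ^ 2 := Finset.sum_nonneg fun _ _ => Finset.sum_nonneg fun _ _ => sq_nonneg _
    rcases even_sq_cases (Finset.mem_filter.mp hi).2 with h | h | h <;> omega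
  obtain ⟨t, ht⟩ := sum_odd_sq O T.d hdO
  have hd16 : ∑ i, T.d i ^ 2 = 16 := by simp only [pow_two]; exact T.dd
  rw [hsplit, ht, Finset.sum_congr rfl hdE, Finset.sum_const, nsmul_eq_mul] at hd16
  have hoO : T.o ∈ O := Finset.mem_filter.mpr ⟨Finset.mem_univ _, by rw [T.d_o]; norm_num⟩
  have hO1 : 1 ≤ O.card := Finset.card_pos.mpr ⟨_, hoO⟩
  have h8 := T.eight_le_card
  have hne8 := T.card_ne_eight
  rcases (show E.card = 0 ∨ E.card = 1 ∧ O.card = 12 ∨ E.card = 2 ∧ O.card = 8 ∧ t = 0 by omega) with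
    h | ⟨hE1, hO12⟩ | ⟨hE2, hO8, ht0⟩
  · omega
  · exfalso
    obtain ⟨e, he⟩ := Finset.card_eq_one.mp hE1
    have hv : ∀ h a, T.U h a e ^ 2 = 4 := fun h a => by
      obtain ⟨t', ht'⟩ := sum_odd_sq O (T.U h a) (hparO h a)
      have h16 := T.uu h a h a
      simp only [and_self, if_true, ← pow_two] at h16
      rw [hsplit, ht', he, Finset.sum_singleton, hO12] at h16
      have := hparE h a e (by rw [he]; simp)
      rcases even_sq_cases this with h1 | h1 | h1 <;> omega
    have hrow := T.row e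
    have := sq_nonneg (T.d e)
    simp [hv] at hrow
    omega
  · exfalso
    obtain ⟨e, f, hef, hEf⟩ := Finset.card_eq_two.mp hE2
    have heE : e ∈ E := by rw [hEf]; simp
    have hfE : f ∈ E := by rw [hEf]; simp
    have hsplit' : ∀ g : ι → ℤ, ∑ i, g i = ∑ i ∈ O, g i + (g e + g f) := fun g => by
      rw [hsplit, hEf, Finset.sum_pair hef]
    have htype : ∀ h a, (T.U h a e ^ 2 = 4 ∧ T.U h a f ^ 2 = 4 ∧ ∀ i ∈ O, T.U h a i ^ 2 = 1) ∨
        (T.U h a e = 0 ∧ T.U h a f = 0 ∧
          ∃ i ∈ O, T.U h a i ^ 2 = 9 ∧ ∀ j ∈ O, j ≠ i → T.U h a j ^ 2 = 1) := fun h a => by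
      obtain ⟨t', ht'⟩ := sum_odd_sq O (T.U h a) (hparO h a)
      have h16 := T.uu h a h a
      simp only [and_self, if_true, ← pow_two] at h16
      rw [hsplit', ht', hO8] at h16
      rcases Nat.eq_zero_or_pos t' with h0 | h0
      · left
        refine ⟨?_, ?_, all_one_of_sum O _ (hparO h a) (by rw [ht', h0]; simp)⟩ <;>
          rcases even_sq_cases (hparE h a e heE) with h1 | h1 | h1 <;>
          rcases even_sq_cases (hparE h a f hfE) with h2 | h2 | h2 <;> omega
      · right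
        have := sq_nonneg (T.U h a e)
        have := sq_nonneg (T.U h a f)
        have ht1 : t' = 1 := by omega
        refine ⟨?_, ?_, one_three_of_sum O _ (hparO h a) (by rw [ht', ht1]; simp)⟩ <;>
          refine pow_eq_zero_iff two_ne_zero |>.mp ?_ <;> omega
    have hde : (2 : ℤ) ∣ T.d e := (Finset.mem_filter.mp heE).2
    have hde4 := hdE e heE
    have hde' : ¬ (4 : ℤ) ∣ T.d e := fun h => by
      obtain ⟨y, hy⟩ := h
      rw [hy] at hde4
      have h1 : 4 * y ^ 2 = 1 := by linarith [mul_pow (4 : ℤ) y 2]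
      omega
    have hge : ∀ h, 4 ≤ T.U h 0 e ^ 2 + T.U h 1 e ^ 2 + T.U h 2 e ^ 2 := fun h => by
      have hc := T.cong h e
      rcases htype h 0 with ⟨a0, -⟩ | ⟨a0, -⟩ <;> rcases htype h 1 with ⟨a1, -⟩ | ⟨a1, -⟩ <;>
        rcases htype h 2 with ⟨a2, -⟩ | ⟨a2, -⟩ <;>
        first
          | (have := sq_nonneg (T.U h 0 e); have := sq_nonneg (T.U h 1 e); have := sq_nonneg (T.U h 2 e); omega)
          | (exfalso; rw [a0, a1, a2] at hc; simp at hc; exact hde' hc)
    have hrow := T.row e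
    simp only [Fin.sum_univ_two, Fin.sum_univ_three, hde4] at hrow
    have hhalf : ∀ h, ∃ a, T.U h a e ^ 2 = 4 ∧ T.U h a f ^ 2 = 4 ∧
        ((∑ k ∈ O, T.U h a k * T.d k) = 8 ∨ (∑ k ∈ O, T.U h a k * T.d k) = -8) := by
      intro h
      -- exactly one of the three vectors of each half is nonzero at `e`
      obtain ⟨a, b, c, hab, hac, hbc, hA, hB, hC⟩ : ∃ a b c : Fin 3, a ≠ b ∧ a ≠ c ∧ b ≠ c ∧
          T.U h a e ^ 2 = 4 ∧ T.U h b e = 0 ∧ T.U h c e = 0 := by
        have hg1 := hge (1 - h)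
        have hrow' : T.U h 0 e ^ 2 + T.U h 1 e ^ 2 + T.U h 2 e ^ 2 + (T.U (1 - h) 0 e ^ 2 + T.U (1 - h) 1 e ^ 2 + T.U (1 - h) 2 e ^ 2) ≤ 11 := by
          fin_cases h <;> simp <;> omega
        have hg0 := hge h
        rcases htype h 0 with ⟨a0, -⟩ | ⟨a0, -⟩ <;> rcases htype h 1 with ⟨a1, -⟩ | ⟨a1, -⟩ <;>
          rcases htype h 2 with ⟨a2, -⟩ | ⟨a2, -⟩
        all_goals first
          | exact ⟨0, 1, 2, by decide, by decide, by decide, a0, a1, a2⟩
          | exact ⟨1, 0, 2, by decide, by decide, by decide, a1, a0, a2⟩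
          | exact ⟨2, 0, 1, by decide, by decide, by decide, a2, a0, a1⟩
          | (exfalso; have := sq_nonneg (T.U h 0 e); have := sq_nonneg (T.U h 1 e)
             have := sq_nonneg (T.U h 2 e); omega)
          | (exfalso; simp [a0, a1, a2] at hg0)
      have hsum3 : ∀ i, T.U h a i + T.U h b i + T.U h c i = T.U h 0 i + T.U h 1 i + T.U h 2 i := fun i => by
        have key : ∀ a b c : Fin 3, a ≠ b → a ≠ c → b ≠ c → ∀ f : Fin 3 → ℤ, f a + f b + f c = f 0 + f 1 + f 2 := by
          intro a b c h1 h2 h3 f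
          fin_cases a <;> fin_cases b <;> fin_cases c <;> simp_all <;> ring
        exact key a b c hab hac hbc (fun x => T.U h x i)
      obtain ⟨hAe, hAf, hA1⟩ := (htype h a).resolve_right fun h => by rw [h.1] at hA; simp at hA
      obtain ⟨-, hBf, i, hi, hbi, hb1⟩ := (htype h b).resolve_left fun h => by
        have := h.1; rw [hB] at this; simp at this
      obtain ⟨-, hCf, j, hj, hcj, hc1⟩ := (htype h c).resolve_left fun h => by
        have := h.1; rw [hC] at this; simp at this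
      have hd1 : ∀ k ∈ O, T.d k ^ 2 = 1 := all_one_of_sum O _ hdO (by rw [ht, ht0]; simp)
      refine ⟨a, hAe, hAf, ?_⟩
      refine sum_signs O hO8 (fun k => T.U h a k * T.d k) (fun k => T.U h b k * T.d k)
        (fun k => T.U h c k * T.d k) (fun k hk => ?_) ?_ hi hj ?_ (fun k hk hki => ?_) ?_
        (fun k hk hkj => ?_) (fun k hk => ?_) ?_ ?_ ?_ ?_ ?_
      · exact sq_eq_one_iff.mp (by rw [mul_pow, hA1 k hk, hd1 k hk, mul_one])
      · have h0 := T.du h a
        rw [hsplit', Finset.sum_congr rfl fun k _ => mul_comm (T.d k) (T.U h a k)] at h0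
        rw [show ∑ k ∈ O, T.U h a k * T.d k = -(T.d e * T.U h a e + T.d f * T.U h a f) by linarith,
          Int.dvd_neg]
        have key : ∀ x : ℤ, x ^ 2 = 4 → x = 2 ∨ x = -2 := fun x hx => by
          refine sq_eq_sq_iff_eq_or_eq_neg.mp ?_
          rw [hx]; norm_num
        rcases key _ hde4 with h1 | h1 <;> rcases key _ (hdE f hfE) with h2 | h2 <;>
          rcases key _ hAe with h3 | h3 <;> rcases key _ hAf with h4 | h4 <;> rw [h1, h2, h3, h4] <;> norm_num
      · rw [mul_pow, hbi, hd1 i hi]; norm_num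
      · rw [mul_pow, hb1 k hk hki, hd1 k hk]; norm_num
      · rw [mul_pow, hcj, hd1 j hj]; norm_num
      · rw [mul_pow, hc1 k hk hkj, hd1 k hk]; norm_num
      · have h4 : (4 : ℤ) ∣ T.d k * (T.d k + (T.U h a k + T.U h b k + T.U h c k)) := by
          refine Dvd.dvd.mul_left ?_ _
          rw [hsum3]
          simpa [add_assoc] using T.cong h k
        have hd := hd1 k hk
        rw [show T.d k * (T.d k + (T.U h a k + T.U h b k + T.U h c k)) =
          1 + T.U h a k * T.d k + T.U h b k * T.d k + T.U h c k * T.d k by linear_combination hd] at h4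
        exact h4
      · have h0 := T.du h b
        rw [hsplit', hB, hBf, Finset.sum_congr rfl fun k _ => mul_comm (T.d k) (T.U h b k)] at h0
        simpa using h0
      · have h0 := T.du h c
        rw [hsplit', hC, hCf, Finset.sum_congr rfl fun k _ => mul_comm (T.d k) (T.U h c k)] at h0
        simpa using h0
      · have h0 := T.uu h a h b
        rw [hsplit', hB, hBf, if_neg (by simp [hab])] at h0
        simp only [mul_zero, add_zero] at h0
        rw [← h0]
        exact Finset.sum_congr rfl fun k hk => by linear_combination (T.U h a k * T.U h b k) * hd1 k hk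
      · have h0 := T.uu h a h c
        rw [hsplit', hC, hCf, if_neg (by simp [hac])] at h0
        simp only [mul_zero, add_zero] at h0
        rw [← h0]
        exact Finset.sum_congr rfl fun k hk => by linear_combination (T.U h a k * T.U h c k) * hd1 k hk
      · have h0 := T.uu h b h c
        rw [hsplit', hC, hCf, if_neg (by simp [hbc])] at h0
        simp only [mul_zero, add_zero] at h0
        rw [← h0]
        exact Finset.sum_congr rfl fun k hk => by linear_combination (T.U h b k * T.U h c k) * hd1 k hk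

    obtain ⟨a₀, he0, hf0, hs0⟩ := hhalf 0
    obtain ⟨a₁, he1, hf1, hs1⟩ := hhalf 1
    have hd1 : ∀ k ∈ O, T.d k ^ 2 = 1 := all_one_of_sum O _ hdO (by rw [ht, ht0]; simp)
    have hconst : ∀ h a, T.U h a e ^ 2 = 4 → (∑ k ∈ O, T.U h a k * T.d k) = 8 ∨ (∑ k ∈ O, T.U h a k * T.d k) = -8 →
        ∃ z : ℤ, (z = 1 ∨ z = -1) ∧ (∀ k ∈ O, T.U h a k = z * T.d k) ∧ (∑ k ∈ O, T.U h a k * T.d k) = 8 * z := by
      intro h a hA hs
      obtain ⟨z, hz, hz8⟩ : ∃ z : ℤ, (z = 1 ∨ z = -1) ∧ (∑ k ∈ O, T.U h a k * T.d k) = 8 * z := by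
        rcases hs with h' | h'
        · exact ⟨1, Or.inl rfl, by rw [h']; norm_num⟩
        · exact ⟨-1, Or.inr rfl, by rw [h']; norm_num⟩
      have hA1 : ∀ i ∈ O, T.U h a i ^ 2 = 1 :=
        ((htype h a).resolve_right fun h' => by rw [h'.1] at hA; simp at hA).2.2
      refine ⟨z, hz, fun k hk => ?_, hz8⟩
      have h0 : ∑ k ∈ O, (T.U h a k - z * T.d k) ^ 2 = 0 := by
        rw [Finset.sum_congr rfl (g := fun k => 2 - 2 * z * (T.U h a k * T.d k)) fun k hk => by
          have h1 := hA1 k hk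
          have h2 := hd1 k hk
          rcases hz with rfl | rfl <;> linear_combination h1 + h2,
          Finset.sum_sub_distrib, ← Finset.mul_sum, hz8, Finset.sum_const, hO8]
        rcases hz with rfl | rfl <;> norm_num
      exact sub_eq_zero.mp (pow_eq_zero_iff two_ne_zero |>.mp
        ((Finset.sum_eq_zero_iff_of_nonneg fun k _ => sq_nonneg _).mp h0 k hk))
    obtain ⟨z₀, hz₀, hU₀, hS₀⟩ := hconst 0 a₀ he0 hs0
    obtain ⟨z₁, hz₁, hU₁, hS₁⟩ := hconst 1 a₁ he1 hs1
    have h0 := T.du 0 a₀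
    have h1 := T.du 1 a₁
    have h01 := T.uu 0 a₀ 1 a₁
    rw [hsplit', Finset.sum_congr rfl fun k _ => mul_comm (T.d k) _, hS₀] at h0
    rw [hsplit', Finset.sum_congr rfl fun k _ => mul_comm (T.d k) _, hS₁] at h1
    rw [hsplit', if_neg (by simp), Finset.sum_congr rfl (g := fun _ => z₀ * z₁) fun k hk => by
      rw [hU₀ k hk, hU₁ k hk]; linear_combination (z₀ * z₁) * hd1 k hk,
      Finset.sum_const, hO8] at h01
    have key : ∀ x : ℤ, x ^ 2 = 4 → x = 2 ∨ x = -2 := fun x hx => by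
      refine sq_eq_sq_iff_eq_or_eq_neg.mp ?_
      rw [hx]; norm_num
    rcases key _ hde4 with g1 | g1 <;> rcases key _ (hdE f hfE) with g2 | g2 <;>
      rcases key _ he0 with g3 | g3 <;> rcases key _ hf0 with g4 | g4 <;>
      rcases key _ he1 with g5 | g5 <;> rcases key _ hf1 with g6 | g6 <;>
      rw [g1, g2, g3, g4] at h0 <;> rw [g1, g2, g5, g6] at h1 <;> rw [g3, g4, g5, g6] at h01 <;>
      rcases hz₀ with rfl | rfl <;> rcases hz₁ with rfl | rfl <;> simp at h0 h1 h01

end Data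

end CfsgLib.ProductFour
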