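import Cfsg.Agent.Lib.Blocks.PrincipalSection
import Cfsg.Agent.Lib.BlockArith.CharCount
import Cfsg.Agent.Lib.Char.BrauerInduction
import Cfsg.Agent.Lib.Char.PiSection
import Cfsg.Agent.Lib.Char.Generalized
import Cfsg.Agent.Lib.BlockArith.FreeSylow
import Cfsg.Agent.Lib.Blocks.Laradji
import Cfsg.Agent.Lib.BlockArith.Subsection

/-!
# Tools for the principal block on sections of an abelian Sylow subgroup

* `ne_zero_of_odd_class`: a character of the principal block vanishes on no class of size prime to `p`;
* `sum_regular_section`: regular sums on a section against the principal block of the centraliser;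
* `sum_products`: column sums over all characters of such regular sums;
* `isGen_sext`: stable generalised characters of an abelian Sylow subgroup extend along `p`-parts.
-/

set_option autoImplicit false

noncomputable section

namespace CfsgLib.ProductFour

open Cfsg CfsgLib.Blocks CfsgLib.Char CfsgLib.FreeSylow CfsgLib.Star
open scoped ComplexConjugate Classical

variable {G : Type*} [Group G] [Fintype G] {M : Ideal AlgInt} [M.IsMaximal] {p : ℕ} [hp : Fact p.Prime]

omit hp in
/-- A character of the principal block vanishes on no class of size prime to `p`. -/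
theorem ne_zero_of_odd_class (hM : IsPModular p M) {χ : IrrCharacter G} (hχ : χ ∈ principalBlock M G)
    {g : G} (hg : ¬ p ∣ (Subgroup.centralizer ({g} : Set G)).index) : (χ : G → ℂ) g ≠ 0 := by
  intro h0
  have h1 := bomega_eq_of_mem (isPBlock_principalBlock (M := M) (G := G)) irrOne_mem_principalBlock hχ
  have h2 := RingHom.congr_fun h1 (zclass M g)
  rw [bomega_apply, bomega_apply] at h2
  have e1 : zomega (M := M) (irrOne : IrrCharacter G) (zclass M g) =
      ((Subgroup.centralizer ({g} : Set G)).index : locRing M) := by
    apply Subtype.ext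
    rw [coe_zomega_zclass]
    simp [centralChar, CfsgLib.Char.irrOne]
  have e2 : zomega (M := M) χ (zclass M g) = 0 := by
    apply Subtype.ext
    rw [coe_zomega_zclass]
    simp [centralChar, h0]
  rw [e1, e2, map_zero] at h2
  exact hg ((res_natCast_eq_zero_iff M hM _).mp h2)

/-- The regular sum against a character of the principal block of the centraliser only sees the
principal block. -/
theorem sum_regular_section (hM : IsPModular p M) {x : G} (hx : ∃ k : ℕ, orderOf x = p ^ k)
    [Fintype (Subgroup.centralizer ({x} : Set G))] (χ : IrrCharacter G)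
    {ζ : IrrCharacter (Subgroup.centralizer ({x} : Set G))}
    (hζ : ζ ∈ principalBlock M (Subgroup.centralizer ({x} : Set G))) :
    ∑ s : Subgroup.centralizer ({x} : Set G),
      (if p ∣ orderOf s then 0 else (χ : G → ℂ) (x * (s : G)) * conj ((ζ : _ → ℂ) s)) =
    if χ ∈ principalBlock M G then ∑ s : Subgroup.centralizer ({x} : Set G),
      (if p ∣ orderOf s then 0 else (χ : G → ℂ) (x * (s : G)) * conj ((ζ : _ → ℂ) s)) else 0 := by
  split_ifs with hχ
  · rfl
  have hcl : IsClassFunction (Subgroup.centralizer ({x} : Set G))
      fun c : Subgroup.centralizer ({x} : Set G) => (χ : G → ℂ) (x * (c : G)) := by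
    intro c d
    show (χ : G → ℂ) (x * ((d : G) * c * (d : G)⁻¹)) = (χ : G → ℂ) (x * c)
    rw [← isClassFunction_of_isIrr χ.2 (x * c) (d : G)]
    congr 1
    have hd := (commute_of_mem_centralizer d).eq
    simp only [← mul_assoc, hd]
  have hB := isPBlock_principalBlock (M := M) (G := Subgroup.centralizer ({x} : Set G))
  calc ∑ s : Subgroup.centralizer ({x} : Set G),
        (if p ∣ orderOf s then 0 else (χ : G → ℂ) (x * (s : G)) * conj ((ζ : _ → ℂ) s))
      = ∑ φ : IrrCharacter (Subgroup.centralizer ({x} : Set G)),
          classInner (fun c : Subgroup.centralizer ({x} : Set G) => (χ : G → ℂ) (x * (c : G))) (φ : _ → ℂ) *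
            ∑ s : Subgroup.centralizer ({x} : Set G),
              (if p ∣ orderOf s then 0 else (φ : _ → ℂ) s * conj ((ζ : _ → ℂ) s)) := by
        simp only [Finset.mul_sum]
        rw [Finset.sum_comm]
        refine Finset.sum_congr rfl fun s _ => ?_
        split_ifs with hs
        · simp
        · have h := congrFun (classFun_eq_sum hcl) s
          simp only [Finset.sum_apply, Pi.smul_apply, smul_eq_mul] at h
          rw [h, Finset.sum_mul]
          exact Finset.sum_congr rfl fun φ _ => by ring
    _ = ∑ φ : IrrCharacter (Subgroup.centralizer ({x} : Set G)),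
          (if φ ∈ principalBlock M (Subgroup.centralizer ({x} : Set G)) then
            classInner (fun c : Subgroup.centralizer ({x} : Set G) => (χ : G → ℂ) (x * (c : G))) (φ : _ → ℂ) *
              ∑ s : Subgroup.centralizer ({x} : Set G),
                (if p ∣ orderOf s then 0 else (φ : _ → ℂ) s * conj ((ζ : _ → ℂ) s)) else 0) := by
        refine Finset.sum_congr rfl fun φ _ => ?_
        split_ifs with hφ
        · rfl
        · rw [regular_orthogonality hM, mul_zero]
          intro hs
          exact hφ (mem_of_bomega_eq hB hζ ((sameBlock_iff φ ζ).mp hs).symm)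
    _ = ∑ s : Subgroup.centralizer ({x} : Set G), (if p ∣ orderOf s then 0 else
          blockPart (principalBlock M (Subgroup.centralizer ({x} : Set G)))
            (fun c : Subgroup.centralizer ({x} : Set G) => (χ : G → ℂ) (x * (c : G))) s *
              conj ((ζ : _ → ℂ) s)) := by
        simp only [Finset.mul_sum, blockPart_apply, Finset.sum_mul]
        rw [Finset.sum_congr rfl fun φ _ => show _ = ∑ s : Subgroup.centralizer ({x} : Set G),
          (if φ ∈ principalBlock M (Subgroup.centralizer ({x} : Set G)) then
            classInner (fun c : Subgroup.centralizer ({x} : Set G) => (χ : G → ℂ) (x * (c : G))) (φ : _ → ℂ) *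
              (if p ∣ orderOf s then 0 else (φ : _ → ℂ) s * conj ((ζ : _ → ℂ) s)) else 0) by
            split_ifs <;> simp, Finset.sum_comm]
        refine Finset.sum_congr rfl fun s _ => ?_
        by_cases hs : p ∣ orderOf s
        · simp [hs]
        · simp only [if_neg hs]
          refine Finset.sum_congr rfl fun φ _ => ?_
          split_ifs <;> ring
    _ = 0 := by
        refine Finset.sum_eq_zero fun s _ => ?_
        split_ifs with hs
        · rfl
        · rw [principal_section hM hx χ hs, if_neg hχ, zero_mul]

omit [M.IsMaximal] in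
/-- Column sums of regular sums on one section. -/
theorem sum_products_self {x : G} (hx : ∃ k : ℕ, orderOf x = p ^ k)
    [Fintype (Subgroup.centralizer ({x} : Set G))]
    (a b : Subgroup.centralizer ({x} : Set G) → ℂ)
    (hb : ∀ s c : Subgroup.centralizer ({x} : Set G), b (c * s * c⁻¹) = b s) :
    ∑ χ : IrrCharacter G,
      (∑ s : Subgroup.centralizer ({x} : Set G),
        (if p ∣ orderOf s then 0 else (χ : G → ℂ) (x * (s : G)) * conj (a s))) *
      conj (∑ s : Subgroup.centralizer ({x} : Set G),
        (if p ∣ orderOf s then 0 else (χ : G → ℂ) (x * (s : G)) * conj (b s))) =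
    (Nat.card (Subgroup.centralizer ({x} : Set G)) : ℂ) * ∑ s : Subgroup.centralizer ({x} : Set G),
      (if p ∣ orderOf s then 0 else b s * conj (a s)) := by
  calc _ = ∑ s : (Subgroup.centralizer ({x} : Set G)), ∑ t : (Subgroup.centralizer ({x} : Set G)), (if p ∣ orderOf s then 0 else if p ∣ orderOf t then 0 else
        conj (a s) * b t * ∑ χ : IrrCharacter G, (χ : G → ℂ) (x * (s : G)) * conj ((χ : G → ℂ) (x * (t : G)))) := by
        simp only [map_sum, Finset.sum_mul_sum]
        rw [Finset.sum_comm]
        refine Finset.sum_congr rfl fun s _ => ?_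
        rw [Finset.sum_comm]
        refine Finset.sum_congr rfl fun t _ => ?_
        by_cases hs : p ∣ orderOf s
        · simp [hs]
        by_cases ht : p ∣ orderOf t
        · simp [hs, ht]
        simp only [if_neg hs, if_neg ht, map_mul, Complex.conj_conj, Finset.mul_sum]
        exact Finset.sum_congr rfl fun χ _ => by ring
    _ = ∑ s : (Subgroup.centralizer ({x} : Set G)), (if p ∣ orderOf s then 0 else (Nat.card (Subgroup.centralizer ({x} : Set G)) : ℂ) * (b s * conj (a s))) := by
        refine Finset.sum_congr rfl fun s _ => ?_
        by_cases hs : p ∣ orderOf s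
        · simp [hs]
        simp only [if_neg hs]
        have hterm : ∀ t : (Subgroup.centralizer ({x} : Set G)), (if p ∣ orderOf t then (0 : ℂ) else
            conj (a s) * b t * ∑ χ : IrrCharacter G, (χ : G → ℂ) (x * (s : G)) * conj ((χ : G → ℂ) (x * (t : G)))) =
            conj (a s) * b s * (if IsConj s t then
              (Nat.card (Subgroup.centralizer ({s} : Set (Subgroup.centralizer ({x} : Set G)))) : ℂ) else 0) := by
          intro t
          by_cases ht : p ∣ orderOf t
          · rw [if_pos ht, if_neg, mul_zero]
            intro h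
            obtain ⟨w, rfl⟩ := isConj_iff.mp h
            exact hs (by rwa [← MulEquiv.orderOf_eq (MulAut.conj w) s, MulAut.conj_apply])
          rw [if_neg ht, second_orthogonality, card_centralizer_shift hx hs,
            if_congr (isConj_shift_iff hx hs ht) rfl rfl]
          split_ifs with h
          · obtain ⟨w, rfl⟩ := isConj_iff.mp h
            rw [hb]
          · simp
        rw [Finset.sum_congr rfl fun t _ => hterm t, ← Finset.mul_sum]
        simp only [CfsgLib.BlockArith.conjugators_eq]
        rw [Finset.sum_comm]
        simp only [Finset.sum_ite_eq, Finset.mem_univ, if_true, Finset.sum_const, Finset.card_univ,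
          nsmul_eq_mul, mul_one, Nat.card_eq_fintype_card]
        ring
    _ = _ := by
        rw [Finset.mul_sum]
        exact Finset.sum_congr (by ext; simp) fun s _ => by split_ifs <;> simp

omit [M.IsMaximal] in
/-- Column sums of regular sums on two sections. -/
theorem sum_products_of_not_isConj {x y : G} (hx : ∃ k : ℕ, orderOf x = p ^ k)
    (hy : ∃ k : ℕ, orderOf y = p ^ k) (hxy : ¬ IsConj x y)
    [Fintype (Subgroup.centralizer ({x} : Set G))] [Fintype (Subgroup.centralizer ({y} : Set G))]
    (a : Subgroup.centralizer ({x} : Set G) → ℂ) (b : Subgroup.centralizer ({y} : Set G) → ℂ) :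
    ∑ χ : IrrCharacter G,
      (∑ s : Subgroup.centralizer ({x} : Set G),
        (if p ∣ orderOf s then 0 else (χ : G → ℂ) (x * (s : G)) * conj (a s))) *
      conj (∑ s : Subgroup.centralizer ({y} : Set G),
        (if p ∣ orderOf s then 0 else (χ : G → ℂ) (y * (s : G)) * conj (b s))) = 0 := by
  simp only [map_sum, Finset.sum_mul_sum]
  rw [Finset.sum_comm]
  refine Finset.sum_eq_zero fun s _ => ?_
  rw [Finset.sum_comm]
  refine Finset.sum_eq_zero fun t _ => ?_
  by_cases hs : p ∣ orderOf s
  · simp [hs]
  by_cases ht : p ∣ orderOf t
  · simp [ht]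
  simp only [if_neg hs, if_neg ht, map_mul, Complex.conj_conj]
  rw [Finset.sum_congr rfl (g := fun χ : IrrCharacter G => conj (a s) * b t *
    ((χ : G → ℂ) (x * (s : G)) * conj ((χ : G → ℂ) (y * (t : G))))) fun χ _ => by ring, ← Finset.mul_sum,
    second_orthogonality, if_neg, mul_zero]
  intro h
  obtain ⟨w, hw⟩ := isConj_iff.mp h
  have h1 : IsPPart p (x * (s : G)) x := ?_
  have h2 : IsPPart p (y * (t : G)) y := ?_
  · have h3 := isPPart_conj h1 w
    rw [hw] at h3
    exact hxy (isConj_iff.mpr ⟨w, isPPart_unique h3 h2⟩)
  · exact isPPart_mul (commute_of_mem_centralizer t) hy (by rwa [Subgroup.orderOf_coe])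
  · exact isPPart_mul (commute_of_mem_centralizer s) hx (by rwa [Subgroup.orderOf_coe])

end CfsgLib.ProductFour
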